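import Groth.Agent.FFLib.Weil.RH
import Groth.Agent.FFLib.RR
import Mathlib.Algebra.Polynomial.Bivariate
import Mathlib.FieldTheory.RatFunc.IntermediateField
import Mathlib.FieldTheory.Minpoly.IsIntegrallyClosed
import Mathlib.RingTheory.AdjoinRoot

/-! Rational points on an absolutely irreducible monic plane curve over a finite field. -/

noncomputable section

set_option linter.style.haveILetI false
set_option linter.unusedSectionVars false

universe u

open Polynomial
open scoped Polynomial.Bivariate

namespace Groth.Agent.PtCount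

open FunFld WithZero IntermediateField

variable {k : Type u} [Field k] {K : Type u} [Field K] [Algebra k K] [Algebra (RatFunc k) K]
  [IsScalarTower k (RatFunc k) K]

/-- The first coordinate. -/
abbrev coordX (k : Type u) [Field k] (K : Type u) [Field K] [Algebra (RatFunc k) K] : K :=
  algebraMap (RatFunc k) K RatFunc.X

variable (k) in
/-- The value of a plane polynomial. -/
def evalK (x y : K) (F : k[X][Y]) : K := (F.map (aeval x).toRingHom).eval y

theorem transcendental_coordX : Transcendental k (coordX k K) := fun h => by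
  have h' : IsAlgebraic k (RatFunc.X : RatFunc k) :=
    (isAlgebraic_algebraMap_iff (algebraMap (RatFunc k) K).injective).1 h
  obtain ⟨p, hp0, hp⟩ := h'
  rw [show (RatFunc.X : RatFunc k) = algebraMap k[X] (RatFunc k) X from RatFunc.algebraMap_X.symm,
    aeval_algebraMap_apply, aeval_X_left_apply, map_eq_zero_iff _ (RatFunc.algebraMap_injective k)] at hp
  exact hp0 hp

theorem aeval_coordX (p : k[X]) :
    aeval (coordX k K) p = algebraMap (RatFunc k) K (algebraMap k[X] (RatFunc k) p) := by
  show aeval (algebraMap (RatFunc k) K RatFunc.X) p = _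
  rw [aeval_algebraMap_apply, ← RatFunc.algebraMap_X, aeval_algebraMap_apply, aeval_X_left_apply]

theorem mem_adjoin_coordX (c : RatFunc k) : algebraMap (RatFunc k) K c ∈ k⟮coordX k K⟯ := by
  have h : c ∈ (⊤ : IntermediateField k (RatFunc k)) := trivial
  rw [← RatFunc.adjoin_X] at h
  have h2 : (IsScalarTower.toAlgHom k (RatFunc k) K) c ∈
      IntermediateField.map (IsScalarTower.toAlgHom k (RatFunc k) K) k⟮(RatFunc.X : RatFunc k)⟯ := ⟨c, h, rfl⟩
  rw [IntermediateField.adjoin_map, Set.image_singleton] at h2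
  exact h2

variable (F : k[X][Y]) (pb : PowerBasis (RatFunc k) K)

include pb in
theorem isFF_coord : FFLib.IsFF k K := by
  classical
  refine ⟨coordX k K, transcendental_coordX, ?_⟩
  refine ⟨⟨(Finset.univ : Finset (Fin pb.dim)).image fun i => pb.basis i, eq_top_iff.2 fun z _ => ?_⟩⟩
  rw [← pb.basis.sum_repr z]
  refine Submodule.sum_mem _ fun i _ => ?_
  rw [Algebra.smul_def]
  exact Submodule.smul_mem _ (⟨_, mem_adjoin_coordX (pb.basis.repr z i)⟩ : k⟮coordX k K⟯)
    (Submodule.subset_span (by simp))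

theorem finrank_adjoin_coordX : Module.finrank k⟮coordX k K⟯ K = pb.dim := by
  rw [← pb.finrank]
  have hr : k⟮coordX k K⟯ = (IsScalarTower.toAlgHom k (RatFunc k) K).fieldRange := by
    rw [AlgHom.fieldRange_eq_map, ← RatFunc.adjoin_X, IntermediateField.adjoin_map, Set.image_singleton]
    rfl
  let e : RatFunc k ≃+* k⟮coordX k K⟯ :=
    RingEquiv.ofBijective ((algebraMap (RatFunc k) K).codRestrict k⟮coordX k K⟯ mem_adjoin_coordX)
      ⟨fun a b h => (algebraMap (RatFunc k) K).injective (Subtype.ext_iff.mp h), fun z => by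
        have h2 : (z : K) ∈ (IsScalarTower.toAlgHom k (RatFunc k) K).fieldRange := hr ▸ (z.2 : (z : K) ∈ k⟮coordX k K⟯)
        obtain ⟨c, hc⟩ := h2
        exact ⟨c, Subtype.ext hc⟩⟩
  refine (Algebra.finrank_eq_of_equiv_equiv e (RingEquiv.refl K) ?_).symm
  ext; rfl

variable (hFm : F.Monic) (hFy : evalK k (coordX k K) pb.gen F = 0)
  (hFd : F.natDegree = pb.dim) {c : ℕ} (hFc : ∀ i, (F.coeff i).natDegree ≤ c)

include hFm hFy hFc in
/-- The pole order of the second coordinate. -/
theorem val_gen_le (P : Place k K) : P.1 pb.gen ≤ (max 1 (P.1 (coordX k K))) ^ c := by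
  by_contra hlt
  rw [not_le] at hlt
  set M := max 1 (P.1 (coordX k K)) with hM
  have h1M : 1 ≤ M := le_max_left _ _
  have hy1 : 1 < P.1 pb.gen := lt_of_le_of_lt (one_le_pow₀ h1M) hlt
  have hcoef : ∀ i, P.1 (aeval (coordX k K) (F.coeff i)) ≤ M ^ c := fun i => by
    rw [aeval_eq_sum_range]
    refine P.1.map_sum_le fun j hj => ?_
    rw [Algebra.smul_def, map_mul, map_pow]
    refine (mul_le_mul' (P.2.1 _) (pow_le_pow_left' (le_max_right 1 _) j)).trans ?_
    rw [one_mul]
    exact pow_le_pow_right₀ h1M (by have := hFc i; have := Finset.mem_range.1 hj; omega)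
  have hsum : P.1 (∑ i ∈ Finset.range F.natDegree, aeval (coordX k K) (F.coeff i) * pb.gen ^ i) <
      P.1 (pb.gen ^ F.natDegree) := by
    refine P.1.map_sum_lt (pow_ne_zero _ (ne_of_gt (zero_lt_one.trans hy1)) |> fun h => by rwa [map_pow])
      fun i hi => ?_
    rw [map_mul, map_pow, map_pow]
    calc P.1 (aeval (coordX k K) (F.coeff i)) * P.1 pb.gen ^ i ≤ M ^ c * P.1 pb.gen ^ i :=
          mul_le_mul_left (hcoef i) _
      _ < P.1 pb.gen * P.1 pb.gen ^ i :=
          mul_lt_mul_of_pos_right hlt (pow_pos (zero_lt_one.trans hy1) _)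
      _ = P.1 pb.gen ^ (i + 1) := (pow_succ' _ _).symm
      _ ≤ P.1 pb.gen ^ F.natDegree := pow_le_pow_right₀ hy1.le (Finset.mem_range.1 hi)
  have h0 : evalK k (coordX k K) pb.gen F =
      pb.gen ^ F.natDegree + ∑ i ∈ Finset.range F.natDegree, aeval (coordX k K) (F.coeff i) * pb.gen ^ i := by
    conv_lhs => rw [evalK, hFm.as_sum]
    simp [Polynomial.eval_finsetSum, Polynomial.map_sum]
  rw [hFy] at h0
  have h2 := P.1.map_add_eq_of_lt_left hsum
  rw [← h0, map_zero, map_pow] at h2
  exact pow_ne_zero _ (ne_of_gt (zero_lt_one.trans hy1)) h2.symm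

variable (hirr : Irreducible (F.map (mapRingHom (algebraMap k (AlgebraicClosure k)))))

include hFm hFy hFd hirr in
/-- The constant field is `k`. -/
theorem isFunctionField_coord : IsFunctionField k K := by
  refine ⟨isFF_coord pb, fun z hz => ?_⟩
  haveI : FiniteDimensional k k⟮z⟯ := adjoin.finiteDimensional hz.isIntegral
  set k' := k⟮z⟯
  have hxt : Transcendental k' (coordX k K) := fun h => transcendental_coordX (K := K)
    (haveI : Algebra.IsAlgebraic k k' := Algebra.IsAlgebraic.of_finite k k'; h.restrictScalars k)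
  let φ : k'[X] →ₐ[k'] K := aeval (coordX k K)
  have hφ : Function.Injective φ := transcendental_iff_injective.1 hxt
  letI : Algebra k'[X] K := φ.toRingHom.toAlgebra
  letI : Algebra (RatFunc k') K := (IsFractionRing.lift (K := RatFunc k') hφ).toAlgebra
  haveI : IsScalarTower k'[X] (RatFunc k') K := IsScalarTower.of_algebraMap_eq fun p =>
    (IsFractionRing.lift_algebraMap (K := RatFunc k') hφ p).symm
  haveI : IsScalarTower k' k'[X] K := IsScalarTower.of_algebraMap_eq fun a => (φ.commutes a).symm
  let F' : k'[X][Y] := F.map (mapRingHom (algebraMap k k'))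
  have hF'y : aeval pb.gen F' = 0 := by
    rw [aeval_def, eval₂_map, ← hFy, evalK, eval_map]
    congr 1
    ext a
    · show φ (mapRingHom (algebraMap k k') (C a)) = _
      rw [coe_mapRingHom, Polynomial.map_C]
      exact ((aeval_C (coordX k K) _).trans (IsScalarTower.algebraMap_apply k k' K a).symm).trans (aeval_C (coordX k K) a).symm
    · show φ (mapRingHom (algebraMap k k') X) = _
      simp [φ]
  have hF'm : F'.Monic := hFm.map _
  have hint : IsIntegral k'[X] pb.gen := ⟨F', hF'm, hF'y⟩
  haveI : Module.IsTorsionFree k'[X] K := Module.isTorsionFree_iff_algebraMap_injective.2 hφ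
  -- the minimal polynomial is all of `F'`
  have hGF : minpoly k'[X] pb.gen = F' := by
    obtain ⟨H, hH⟩ := minpoly.isIntegrallyClosed_dvd hint hF'y
    let e : k' →ₐ[k] AlgebraicClosure k := IsAlgClosed.lift
    have hirr' : Irreducible (F'.map (mapRingHom e.toRingHom)) := by
      rw [Polynomial.map_map, mapRingHom_comp,
        show e.toRingHom.comp (algebraMap k k') = algebraMap k _ from RingHom.ext e.commutes]
      exact hirr
    rw [hH, Polynomial.map_mul] at hirr'
    have hGm := minpoly.monic hint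
    have hGd := minpoly.natDegree_pos hint
    have hHm : H.Monic := hGm.of_mul_monic_left (hH ▸ hF'm)
    rcases hirr'.isUnit_or_isUnit rfl with h | h
    · rw [(hGm.map _).isUnit_iff] at h
      have := hGm.natDegree_map (mapRingHom e.toRingHom)
      rw [h, natDegree_one] at this
      omega
    · rw [(hHm.map _).isUnit_iff] at h
      have := hHm.natDegree_map (mapRingHom e.toRingHom)
      rw [h, natDegree_one] at this
      rw [hH, hHm.natDegree_eq_zero.1 this.symm, mul_one]
  have hdeg : (minpoly (RatFunc k') pb.gen).natDegree = pb.dim := by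
    rw [minpoly.isIntegrallyClosed_eq_field_fractions' (RatFunc k') hint,
      (minpoly.monic hint).natDegree_map, hGF, hFm.natDegree_map, hFd]
  -- images of the coefficients
  have hmem : ∀ a : RatFunc k, ∃ a' : RatFunc k', algebraMap (RatFunc k') K a' = algebraMap (RatFunc k) K a := by
    have hp : ∀ p : k[X], algebraMap (RatFunc k') K (algebraMap k'[X] (RatFunc k') (p.map (algebraMap k k'))) =
        algebraMap (RatFunc k) K (algebraMap k[X] (RatFunc k) p) := fun p => by
      rw [← IsScalarTower.algebraMap_apply, ← aeval_coordX]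
      exact aeval_map_algebraMap k' _ p
    intro a
    induction a using RatFunc.induction_on with
    | f p q hq =>
      exact ⟨algebraMap k'[X] (RatFunc k') (p.map (algebraMap k k')) /
        algebraMap k'[X] (RatFunc k') (q.map (algebraMap k k')), by rw [map_div₀, map_div₀, hp, hp]⟩
  choose a' ha' using hmem
  -- the coordinates of `z`
  have hd : 0 < pb.dim := pb.dim_pos
  let z' : RatFunc k' := algebraMap k'[X] (RatFunc k') (C ⟨z, mem_adjoin_simple_self k z⟩)
  have hz' : algebraMap (RatFunc k') K z' = z := by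
    rw [← IsScalarTower.algebraMap_apply]
    exact aeval_C _ _
  have hind : LinearIndependent (RatFunc k') fun i : Fin pb.dim => pb.gen ^ (i : ℕ) := by
    have := linearIndependent_pow (K := RatFunc k') pb.gen
    exact hdeg ▸ this
  have hrepr : z = ∑ i, algebraMap (RatFunc k) K (pb.basis.repr z i) * pb.gen ^ (i : ℕ) := by
    conv_lhs => rw [← pb.basis.sum_repr z]
    simp [Algebra.smul_def]
  let co : Fin pb.dim → RatFunc k' := fun i => a' (pb.basis.repr z i) - if (i : ℕ) = 0 then z' else 0
  have hco : ∑ i, co i • pb.gen ^ (i : ℕ) = 0 := by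
    simp only [co, Algebra.smul_def, map_sub, sub_mul, Finset.sum_sub_distrib, ha', ← hrepr]
    rw [Finset.sum_eq_single ⟨0, hd⟩ (fun i _ hi => by simp [Fin.val_ne_iff.2 hi]) (by simp)]
    simp [hz']
  have h0 := Fintype.linearIndependent_iff.1 hind co hco ⟨0, hd⟩
  simp only [co, if_pos, sub_eq_zero] at h0
  have hz2 : z = algebraMap (RatFunc k) K (pb.basis.repr z ⟨0, hd⟩) := by rw [← ha', h0, hz']
  set a₀ := pb.basis.repr z ⟨0, hd⟩
  have halg : IsIntegral k a₀ := by
    rw [hz2] at hz
    exact ((isAlgebraic_algebraMap_iff (algebraMap (RatFunc k) K).injective).1 hz).isIntegral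
  obtain ⟨p, hp⟩ := IsIntegrallyClosed.isIntegral_iff.1 (halg.tower_top (A := k[X]))
  rw [← hp, isIntegral_algebraMap_iff (RatFunc.algebraMap_injective k)] at halg
  have hp0 : p.natDegree = 0 := by
    by_contra hne
    exact p.transcendental hne (mem_nonZeroDivisors_of_ne_zero (leadingCoeff_ne_zero.2 fun h => hne (by simp [h]))) halg.isAlgebraic
  refine ⟨p.coeff 0, ?_⟩
  rw [hz2, ← hp, IsScalarTower.algebraMap_apply k (RatFunc k) K, IsScalarTower.algebraMap_apply k k[X] (RatFunc k)]
  congr 2
  exact (eq_C_of_natDegree_eq_zero hp0).symm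

include hFm hFy hFd hFc hirr in
/-- A crude bound for the genus. -/
theorem genus_le_coord : genus k K ≤ c * pb.dim * pb.dim + 1 := by
  classical
  have hK := isFunctionField_coord F pb hFm hFy hFd hirr
  have hx := transcendental_coordX (k := k) (K := K)
  set d := pb.dim
  set x := coordX k K
  have hd : 0 < d := pb.dim_pos
  obtain ⟨n, hn⟩ : ∃ n : ℕ, 2 * genus k K + c * d ≤ n := ⟨_, le_rfl⟩
  let D : Divisor k K := (n : ℤ) • FFLib.poles x
  have hdeg : D.deg = n * d := by
    rw [FFLib.deg_zsmul, FFLib.deg_poles hK.1 hx, finrank_adjoin_coordX pb]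
  have hmem : ∀ ij : Fin (n - c * d + 1) × Fin d, x ^ (ij.1 : ℕ) * pb.gen ^ (ij.2 : ℕ) ∈ L D := by
    rintro ⟨i, j⟩ P
    have hM : max 1 (P.1 x) ≤ exp (FFLib.poles (k := k) x P) :=
      max_le (by rw [← exp_zero, exp_le_exp]; exact FFLib.poles_nonneg x P) (FFLib.val_le_exp_poles hK.1 x P)
    rw [map_mul, map_pow, map_pow]
    refine (mul_le_mul' (pow_le_pow_left' ((le_max_right 1 _).trans hM) _)
      (pow_le_pow_left' ((val_gen_le F pb hFm hFy hFc P).trans (pow_le_pow_left' hM _)) _)).trans ?_
    rw [← exp_nsmul, ← exp_nsmul, ← exp_nsmul, ← exp_add, exp_le_exp]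
    simp only [D, Finsupp.smul_apply, smul_eq_mul, nsmul_eq_mul, ← mul_assoc, ← add_mul]
    refine mul_le_mul_of_nonneg_right ?_ (FFLib.poles_nonneg x P)
    have h1 := i.2
    have h2 : c * j.1 ≤ c * d := Nat.mul_le_mul_left c j.2.le
    push_cast at *
    have h3 : ((i : ℕ) : ℤ) + (j.1 : ℤ) * c ≤ n := by
      have : (i : ℕ) + j.1 * c ≤ n := by rw [Nat.mul_comm j.1 c]; omega
      exact_mod_cast this
    exact h3
  have hpow : LinearIndependent k fun i : Fin (n - c * d + 1) => (RatFunc.X : RatFunc k) ^ (i : ℕ) := by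
    refine LinearIndependent.of_comp (IsScalarTower.toAlgHom k (RatFunc k) K).toLinearMap ?_
    have := (FFLib.linearIndependent_powers hx).comp (fun i : Fin (n - c * d + 1) => (i : ℕ)) Fin.val_injective
    simpa [Function.comp_def] using this
  have hind := linearIndependent_smul hpow pb.basis.linearIndependent
  let w := fun p => (⟨_, hmem p⟩ : L D)
  have hw : LinearIndependent k w := LinearIndependent.of_comp (Submodule.subtype _) (by
    simpa [Function.comp_def, w, Algebra.smul_def] using hind)
  haveI := FFLib.L_finite hK.1 D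
  have h1 : (((n - c * d + 1) * d : ℕ) : ℤ) ≤ ell D := by
    have := hw.fintype_card_le_finrank
    rw [Fintype.card_prod, Fintype.card_fin, Fintype.card_fin] at this
    exact_mod_cast this
  have h2 := FFLib.ell_of_deg_gt hK (D := D) (by rw [hdeg]; nlinarith)
  rw [hdeg] at h2
  have h3 : ((n - c * d + 1 : ℕ) : ℤ) = (n : ℤ) - c * d + 1 := by
    have : c * d ≤ n := by omega
    push_cast [this]; ring
  rw [Nat.cast_mul, h3] at h1
  have : (genus k K : ℤ) ≤ ((c * d * d + 1 : ℕ) : ℤ) := by push_cast; nlinarith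
  exact_mod_cast this

theorem residue_exists {P : Place k K} (hdeg : P.deg = 1) {z : K} (hz : P.1 z ≤ 1) :
    ∃ a : k, P.1 (z - algebraMap k K a) < 1 := by
  have h1 : Module.finrank k (IsLocalRing.ResidueField P.O) = 1 := hdeg
  obtain ⟨a, ha⟩ := (finrank_eq_one_iff_of_nonzero' (1 : IsLocalRing.ResidueField P.O) one_ne_zero).1 h1
    (IsLocalRing.residue P.O ⟨z, hz⟩)
  refine ⟨a, ?_⟩
  have h2 : IsLocalRing.residue P.O (⟨z, hz⟩ - algebraMap k P.O a) = 0 := by
    rw [map_sub, ← ha, sub_eq_zero]
    exact (Algebra.algebraMap_eq_smul_one a).symm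
  exact (FFLib.residue_eq_zero P _).1 h2

include hFy in
theorem eval_eq_zero_of_residue {P : Place k K} {a b : k} (ha : P.1 (coordX k K - algebraMap k K a) < 1)
    (hb : P.1 (pb.gen - algebraMap k K b) < 1) : F.evalEval a b = 0 := by
  have hx : P.1 (coordX k K) ≤ 1 := by
    rw [← sub_add_cancel (coordX k K) (algebraMap k K a)]
    exact (P.1.map_add _ _).trans (max_le ha.le (P.2.1 a))
  have hy : P.1 pb.gen ≤ 1 := by
    rw [← sub_add_cancel pb.gen (algebraMap k K b)]
    exact (P.1.map_add _ _).trans (max_le hb.le (P.2.1 b))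
  let xo : P.O := ⟨_, hx⟩
  let yo : P.O := ⟨_, hy⟩
  let v : k[X][Y] →ₐ[k] P.O := aevalAeval xo yo
  have hv : (v F : K) = evalK k (coordX k K) pb.gen F := by
    have : (P.O.subtype.comp v.toRingHom) = (Polynomial.evalRingHom pb.gen).comp
        (mapRingHom (aeval (R := k) (coordX k K)).toRingHom) := by
      ext a <;> simp [v, xo, yo, FFLib.coe_algebraMap_O]
    exact RingHom.congr_fun this F
  have hxr : IsLocalRing.residue P.O xo = algebraMap k _ a := by
    rw [← sub_eq_zero]
    exact ((map_sub (IsLocalRing.residue P.O) xo (algebraMap k P.O a)).symm).trans ((FFLib.residue_eq_zero P _).2 ha)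
  have hyr : IsLocalRing.residue P.O yo = algebraMap k _ b := by
    rw [← sub_eq_zero]
    exact ((map_sub (IsLocalRing.residue P.O) yo (algebraMap k P.O b)).symm).trans ((FFLib.residue_eq_zero P _).2 hb)
  have h0 : IsLocalRing.residue P.O (v F) = 0 := by
    rw [FFLib.residue_eq_zero, hv, hFy, map_zero]
    exact zero_lt_one
  have h : IsLocalRing.residue P.O (v F) = algebraMap k _ (F.evalEval a b) := by
    have : (IsLocalRing.residue P.O).comp v.toRingHom =
        (algebraMap k (IsLocalRing.ResidueField P.O)).comp (evalEvalRingHom a b) := by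
      ext t
      · simp [v]; rfl
      · simpa [v] using hxr
      · simpa [v] using hyr
    exact RingHom.congr_fun this F
  rw [h0] at h
  exact (map_eq_zero _).1 h.symm

include hFm hFy hFd hFc hirr in
theorem card_points_coord [Finite k] (h : k[X]) (h0 : h ≠ 0) :
    (Nat.card k : ℝ) + 1 - 2 * (c * pb.dim * pb.dim + 1 : ℕ) * Real.sqrt (Nat.card k : ℝ) -
      pb.dim * (1 + h.natDegree) ≤
      pb.dim * Nat.card {ab : k × k // F.evalEval ab.1 ab.2 = 0 ∧ h.eval ab.1 ≠ 0} := by
  classical
  haveI := Fintype.ofFinite k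
  have hK := isFunctionField_coord F pb hFm hFy hFd hirr
  have hx := transcendental_coordX (k := k) (K := K)
  set d := pb.dim
  set x := coordX k K
  -- the places of degree one
  have hfin := FFLib.finite_deg_le (k := k) (K := K) hK.1 1
  set S := hfin.toFinset.filter fun P => P.deg = 1
  have hS : Nat.card {P : Place k K // P.deg = 1} = S.card := by
    rw [← Nat.card_eq_finsetCard]
    refine Nat.card_congr (Equiv.subtypeEquivRight fun P => ?_)
    simp only [S, Finset.mem_filter, Set.Finite.mem_toFinset]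
    exact ⟨fun h => ⟨le_of_eq h, h⟩, fun h => h.2⟩
  have hdeg1 : ∀ P ∈ S, P.deg = 1 := fun P hP => (Finset.mem_filter.1 hP).2
  -- places over a value
  have hover : ∀ (T : Finset (Place k K)) (a : k), (∀ P ∈ T, P.deg = 1 ∧ P.1 (x - algebraMap k K a) < 1) →
      T.card ≤ d := by
    intro T a hT
    have hxa : Transcendental k (x - algebraMap k K a) := fun h => hx (by
      simpa using h.add (isAlgebraic_algebraMap a))
    have h := FFLib.sum_ord_deg_le hK.1 T hxa fun P hP => (hT P hP).2
    have hadj : k⟮x - algebraMap k K a⟯ = k⟮x⟯ := le_antisymm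
      (adjoin_simple_le_iff.2 (sub_mem (mem_adjoin_simple_self k x) (IntermediateField.algebraMap_mem _ a)))
      (adjoin_simple_le_iff.2 (by
        simpa using add_mem (mem_adjoin_simple_self k (x - algebraMap k K a)) (IntermediateField.algebraMap_mem _ a)))
    rw [hadj, finrank_adjoin_coordX pb] at h
    refine (Nat.cast_le (α := ℤ)).1 (le_trans ?_ h)
    rw [Finset.card_eq_sum_ones, Nat.cast_sum]
    refine Finset.sum_le_sum fun P hP => ?_
    rw [(hT P hP).1]
    have hne : x - algebraMap k K a ≠ 0 := fun e => hxa (e ▸ isAlgebraic_zero)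
    have := (FFLib.val_lt_one_iff P hne).1 (hT P hP).2
    push_cast
    omega
  set Sp := S.filter fun P => 1 < P.1 x
  set Sf := S.filter fun P => ¬ 1 < P.1 x
  have hp : Sp.card ≤ d := by
    have h := FFLib.sum_ord_deg_le hK.1 Sp (FFLib.transcendental_inv hx) fun P hP => by
      rw [map_inv₀]
      exact inv_lt_one_of_one_lt₀ (Finset.mem_filter.1 hP).2
    rw [FFLib.adjoin_inv, finrank_adjoin_coordX pb] at h
    refine (Nat.cast_le (α := ℤ)).1 (le_trans ?_ h)
    rw [Finset.card_eq_sum_ones, Nat.cast_sum]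
    refine Finset.sum_le_sum fun P hP => ?_
    rw [hdeg1 P (Finset.mem_filter.1 hP).1, FFLib.ord_inv]
    have hne : x ≠ 0 := fun e => hx (e ▸ isAlgebraic_zero)
    have := (FFLib.one_lt_val_iff P hne).1 (Finset.mem_filter.1 hP).2
    push_cast
    omega
  -- the first coordinates of the places
  have hA : ∀ P ∈ Sf, ∃ a b : k, P.1 (x - algebraMap k K a) < 1 ∧ F.evalEval a b = 0 := by
    intro P hP
    obtain ⟨hPS, hPx⟩ := Finset.mem_filter.1 hP
    have hPx' : P.1 x ≤ 1 := not_lt.1 hPx
    obtain ⟨a, ha⟩ := residue_exists (hdeg1 P hPS) hPx'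
    obtain ⟨b, hb⟩ := residue_exists (hdeg1 P hPS) (z := pb.gen) ((val_gen_le F pb hFm hFy hFc P).trans (by
      rw [max_eq_left hPx', one_pow]))
    exact ⟨a, b, ha, eval_eq_zero_of_residue F pb hFy ha hb⟩
  choose! A B hA' hAB using hA
  set Good := (Finset.univ : Finset (k × k)).filter fun ab => F.evalEval ab.1 ab.2 = 0 ∧ h.eval ab.1 ≠ 0
  have hsub : Sf.image A ⊆ Good.image Prod.fst ∪ h.roots.toFinset := by
    intro a ha
    obtain ⟨P, hP, rfl⟩ := Finset.mem_image.1 ha
    rw [Finset.mem_union]
    by_cases hh : h.eval (A P) = 0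
    · exact Or.inr (Multiset.mem_toFinset.2 ((mem_roots h0).2 hh))
    · exact Or.inl (Finset.mem_image.2 ⟨(A P, B P), Finset.mem_filter.2 ⟨Finset.mem_univ _, hAB P hP, hh⟩, rfl⟩)
  have hSf : Sf.card ≤ d * (Good.card + h.natDegree) := by
    refine (Finset.card_le_mul_card_image (f := A) Sf d fun a _ => hover _ a fun P hP => ?_).trans ?_
    · obtain ⟨hPf, hPa⟩ := Finset.mem_filter.1 hP
      exact ⟨hdeg1 P (Finset.mem_filter.1 hPf).1, hPa ▸ hA' P hPf⟩
    · refine Nat.mul_le_mul_left _ ((Finset.card_le_card hsub).trans ((Finset.card_union_le _ _).trans ?_))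
      exact add_le_add Finset.card_image_le ((Multiset.toFinset_card_le _).trans (card_roots' h))
  have hcount : S.card ≤ d + d * (Good.card + h.natDegree) := by
    rw [← Finset.card_filter_add_card_filter_not (s := S) (fun P => 1 < P.1 x)]
    exact add_le_add hp hSf
  have hgood : Nat.card {ab : k × k // F.evalEval ab.1 ab.2 = 0 ∧ h.eval ab.1 ≠ 0} = Good.card := by
    rw [Nat.card_eq_fintype_card, Fintype.card_subtype]
  -- Hasse–Weil
  obtain ⟨α, hα, hn⟩ := FFLib.norm_sq_root hK
  have hw := FFLib.placeCount_eq hK.1 α hα le_rfl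
  rw [FFLib.placeCount_one, hS] at hw
  simp only [pow_one] at hw
  have hα' : ∀ i, ‖α i‖ = Real.sqrt (Nat.card k : ℝ) := fun i => by
    rw [← hn i, Real.sqrt_sq (norm_nonneg _)]
  have hlow : (Nat.card k : ℝ) + 1 - 2 * (genus k K : ℝ) * Real.sqrt (Nat.card k : ℝ) ≤ S.card := by
    have h1 := congrArg Complex.re hw
    simp only [Complex.natCast_re, Complex.sub_re, Complex.add_re, Complex.one_re] at h1
    have h2 : (∑ i, α i).re ≤ 2 * (genus k K : ℝ) * Real.sqrt (Nat.card k : ℝ) := by
      refine (Complex.re_le_norm _).trans ((norm_sum_le _ _).trans (le_of_eq ?_))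
      simp [hα', mul_assoc]
    linarith
  have hg : (genus k K : ℝ) * Real.sqrt (Nat.card k : ℝ) ≤
      (c * d * d + 1 : ℕ) * Real.sqrt (Nat.card k : ℝ) :=
    mul_le_mul_of_nonneg_right (by exact_mod_cast genus_le_coord F pb hFm hFy hFd hFc hirr) (Real.sqrt_nonneg _)
  have hc2 : (S.card : ℝ) ≤ d + d * (Good.card + h.natDegree) := by exact_mod_cast hcount
  rw [hgood]
  nlinarith

end Groth.Agent.PtCount

namespace Groth.Agent.PtCount

/-- Rational points on an absolutely irreducible curve. -/
theorem card_points_lower {k : Type u} [Field k] [Finite k] (F : k[X][Y]) (hFm : F.Monic) {c : ℕ}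
    (hFc : ∀ i, (F.coeff i).natDegree ≤ c)
    (hirr : Irreducible (F.map (mapRingHom (algebraMap k (AlgebraicClosure k))))) (h : k[X]) (h0 : h ≠ 0) :
    (Nat.card k : ℝ) + 1 - 2 * (c * F.natDegree * F.natDegree + 1 : ℕ) * Real.sqrt (Nat.card k : ℝ) -
      F.natDegree * (1 + h.natDegree) ≤
      F.natDegree * Nat.card {ab : k × k // F.evalEval ab.1 ab.2 = 0 ∧ h.eval ab.1 ≠ 0} := by
  have hk : Irreducible F := by
    rw [hFm.irreducible_iff_natDegree]
    refine ⟨fun h1 => hirr.not_isUnit (by rw [h1, Polynomial.map_one]; exact isUnit_one), fun G H hG hH hGH => ?_⟩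
    have h2 : F.map (mapRingHom (algebraMap k (AlgebraicClosure k))) =
        G.map (mapRingHom (algebraMap k (AlgebraicClosure k))) *
          H.map (mapRingHom (algebraMap k (AlgebraicClosure k))) := by rw [← hGH, Polynomial.map_mul]
    rcases hirr.isUnit_or_isUnit h2 with h3 | h3
    · rw [(hG.map _).isUnit_iff] at h3
      exact Or.inl (by rw [← hG.natDegree_map (mapRingHom (algebraMap k (AlgebraicClosure k))), h3, natDegree_one])
    · rw [(hH.map _).isUnit_iff] at h3
      exact Or.inr (by rw [← hH.natDegree_map (mapRingHom (algebraMap k (AlgebraicClosure k))), h3, natDegree_one])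
  let Φ := F.map (algebraMap k[X] (RatFunc k))
  haveI : Fact (Irreducible Φ) := ⟨(hFm.irreducible_iff_irreducible_map_fraction_map (K := RatFunc k)).1 hk⟩
  have hΦm : Φ.Monic := hFm.map _
  let pb := AdjoinRoot.powerBasis hΦm.ne_zero
  have hdim : pb.dim = F.natDegree := by
    rw [AdjoinRoot.powerBasis_dim, hFm.natDegree_map]
  have hFy : evalK k (coordX k (AdjoinRoot Φ)) pb.gen F = 0 := by
    have e : (aeval (R := k) (coordX k (AdjoinRoot Φ))).toRingHom =
        (AdjoinRoot.of Φ).comp (algebraMap k[X] (RatFunc k)) := RingHom.ext fun p => aeval_coordX p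
    rw [evalK, e, ← Polynomial.map_map, eval_map, AdjoinRoot.powerBasis_gen, AdjoinRoot.eval₂_root]
  have := card_points_coord F pb hFm hFy hdim.symm hFc hirr h h0
  rwa [hdim] at this

end Groth.Agent.PtCount
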