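import Groth.Agent.PtCount.Lower
import Groth.Agent.ZetaLib.EulerProduct
import Groth.Agent.ZetaLib.PointsOfExt
import Groth.Agent.S5798
import Groth.Agent.S13062
import Groth.Agent.EGA41Lib.IntDim
import Groth.Agent.WeilLib.PointCount
import Mathlib.RingTheory.NoetherNormalization
import Mathlib.FieldTheory.Finite.Extension
import Mathlib.NumberTheory.LSeries.Convergence
import Mathlib.Algebra.Field.ULift

/-! The abscissa of convergence of the zeta function of a scheme over a finite field. -/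

noncomputable section

set_option linter.style.haveILetI false
set_option linter.unusedSectionVars false
set_option backward.isDefEq.respectTransparency false
set_option backward.isDefEq.respectTransparency.types false

universe u

open CategoryTheory AlgebraicGeometry

namespace Groth.Agent.PtCount

/-- Finitely many effective zero-cycles of a given norm. -/
theorem finite_cycles {X : Scheme.{u}} (g : X ⟶ Spec (CommRingCat.of (ULift.{u} ℤ))) [LocallyOfFiniteType g]
    [QuasiCompact g] (r : ℕ) (hr : topologicalKrullDim X ≤ r) {n : ℕ} (hn : 0 < n) :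
    Finite { α : X →₀ ℕ //
      (∀ x ∈ α.support, IsClosed ({x} : Set X)) ∧ α.prod (fun x m => Nat.card (X.residueField x) ^ m) = n } := by
  classical
  let σ : ℝ := r + 1
  let z : ZetaLib.ClosedPt X → ℝ := fun x => (ZetaLib.ptNorm x : ℝ) ^ (-σ)
  have hs : Summable (ZetaLib.mon z) :=
    ZetaLib.summable_mon z ((2 : ℝ) ^ (-σ)) (Real.rpow_lt_one_of_one_lt_of_neg one_lt_two (by simp only [σ]; linarith [Nat.cast_nonneg (α := ℝ) r]))
      (fun _ => Real.rpow_nonneg (Nat.cast_nonneg _) _)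
      (fun x => Real.rpow_le_rpow_of_nonpos two_pos (by exact_mod_cast ZetaLib.two_le_ptNorm g x)
        (by simp only [σ]; linarith [Nat.cast_nonneg (α := ℝ) r]))
      (ZetaLib.summable_ptNorm g r hr (by simp [σ]))
  have h1 : ∀ β : {β : ZetaLib.ClosedPt X →₀ ℕ // ZetaLib.mon ZetaLib.ptNorm β = n},
      ZetaLib.mon z β.1 = (n : ℝ) ^ (-σ) := fun β => by
    conv_rhs => rw [← β.2]
    simp only [ZetaLib.mon, Finsupp.prod, z, Nat.cast_prod, Nat.cast_pow]
    rw [← Real.finsetProd_rpow _ _ (fun i _ => by positivity)]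
    exact Finset.prod_congr rfl fun i _ => Real.rpow_pow_comm (Nat.cast_nonneg _) _ _
  haveI : Finite {β : ZetaLib.ClosedPt X →₀ ℕ // ZetaLib.mon ZetaLib.ptNorm β = n} := by
    have h := (hs.comp_injective (i := fun β : {β : ZetaLib.ClosedPt X →₀ ℕ // ZetaLib.mon ZetaLib.ptNorm β = n} => β.1)
      Subtype.val_injective).congr h1
    by_contra hinf
    rw [not_finite_iff_infinite] at hinf
    exact (Real.rpow_pos_of_pos (Nat.cast_pos.2 hn) _).ne' ((summable_const_iff _).1 h)
  exact Finite.of_equiv _ (ZetaLib.cycleEquiv X n).symm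

/-- A finitely generated domain over a field has a basis of parameters. -/
theorem exists_parameters (k A : Type u) [Field k] [CommRing A] [IsDomain A] [Algebra k A] [Algebra.FiniteType k A]
    (r : ℕ) (hr : ringKrullDim A = r) :
    ∃ t : Fin r → A, AlgebraicIndependent k t ∧ ∀ a, RelAlg k t a := by
  obtain ⟨s, g, hg, hgf⟩ := exists_finite_inj_algHom_of_fg k A
  letI := g.toRingHom.toAlgebra
  haveI : Algebra.IsIntegral (MvPolynomial (Fin s) k) A := ⟨hgf.to_isIntegral⟩
  have hs : s = r := by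
    have h := EGA41Lib.ringKrullDim_eq_of_integral (A := MvPolynomial (Fin s) k) (B := A) hg
    rw [hr, MvPolynomial.ringKrullDim_of_isNoetherianRing, ringKrullDim_eq_zero_of_field, Nat.card_fin, zero_add] at h
    exact_mod_cast h.symm
  subst hs
  have hg' : MvPolynomial.aeval (fun i => g (MvPolynomial.X i)) = g := (MvPolynomial.aeval_unique g).symm
  refine ⟨fun i => g (MvPolynomial.X i), fun p q h => hg ?_, fun a => ?_⟩
  · simpa [hg'] using h
  · obtain ⟨p, hp, hp'⟩ := hgf.to_isIntegral a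
    exact ⟨p, hp.ne_zero, by rw [hg']; exact hp'⟩

theorem succ_le_of_lt {r : ℕ} {x : WithBot ℕ∞} (h : (r : WithBot ℕ∞) < x) : ((r + 1 : ℕ) : WithBot ℕ∞) ≤ x := by
  induction x using WithBot.recBotCoe with
  | bot => exact absurd h not_lt_bot
  | coe x =>
    refine WithBot.coe_le_coe.2 ?_
    have h' : (r : ℕ∞) < x := WithBot.coe_lt_coe.1 h
    show ((r + 1 : ℕ) : ℕ∞) ≤ x
    push_cast
    exact (ENat.add_one_le_iff (ENat.natCast_ne_top r)).2 h'

theorem zero_le_of_bot_lt {x : WithBot ℕ∞} (h : ⊥ < x) : ((0 : ℕ) : WithBot ℕ∞) ≤ x := by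
  induction x using WithBot.recBotCoe with
  | bot => exact absurd h (lt_irrefl _)
  | coe x => exact WithBot.coe_le_coe.2 zero_le

theorem one_lt_sqrt' {q : ℝ} (hq : 1 < q) : 1 < Real.sqrt q := by
  simpa using Real.sqrt_lt_sqrt zero_le_one hq

variable {k : Type u} [Field k] [Finite k] {Y : Scheme.{u}} (f : Y ⟶ Spec (CommRingCat.of k))
  [LocallyOfFiniteType f] [QuasiCompact f]

include f in
omit [Finite k] in
/-- An integral affine piece of top dimension. -/
theorem exists_piece (r : ℕ) (hr : topologicalKrullDim Y = r) :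
    ∃ (A : Type u) (_ : CommRing A) (_ : IsDomain A) (_ : Algebra k A) (j : Spec (CommRingCat.of A) ⟶ Y),
      Mono j ∧ Algebra.FiniteType k A ∧ ringKrullDim A = r ∧
        j ≫ f = Spec.map (CommRingCat.ofHom (algebraMap k A)) := by
  let U : Y.affineCover.I₀ → TopologicalSpace.Opens Y := fun i => (Y.affineCover.f i).opensRange
  have hcov : ⨆ i, U i = ⊤ := Y.affineCover.iSup_opensRange
  have hd := S5798.result Y _ U hcov
  obtain ⟨i, hi⟩ : ∃ i, (r : WithBot ℕ∞) ≤ topologicalKrullDim (U i) := by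
    rw [hr] at hd
    rcases r with _ | r
    · have h0 := (WithBot.bot_lt_coe ((0 : ℕ) : ℕ∞)).trans_eq hd
      obtain ⟨i, hi⟩ := lt_iSup_iff.1 h0
      exact ⟨i, zero_le_of_bot_lt hi⟩
    · have h0 := lt_of_lt_of_eq (show ((r : ℕ) : WithBot ℕ∞) < ((r + 1 : ℕ) : WithBot ℕ∞) by
        exact_mod_cast Nat.lt_succ_self r) hd
      obtain ⟨i, hi⟩ := lt_iSup_iff.1 h0
      exact ⟨i, succ_le_of_lt hi⟩
  have hU : IsAffineOpen (U i) := isAffineOpen_opensRange _
  let R₀ := Γ(Y, U i)
  let g : Spec R₀ ⟶ Y := hU.fromSpec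
  obtain ⟨φ, hφ⟩ := Spec.map_surjective (g ≫ f)
  letI : Algebra k R₀ := φ.hom.toAlgebra
  haveI : Algebra.FiniteType k R₀ := by
    have : LocallyOfFiniteType (Spec.map φ) := hφ ▸ inferInstance
    rw [HasRingHomProperty.Spec_iff (P := @LocallyOfFiniteType)] at this
    exact this
  have hdim : (r : WithBot ℕ∞) ≤ ringKrullDim R₀ := by
    refine hi.trans (le_of_eq ?_)
    rw [← PrimeSpectrum.topologicalKrullDim_eq_ringKrullDim]
    exact IsHomeomorph.topologicalKrullDim_eq _ hU.isoSpec.hom.homeomorph.isHomeomorph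
  have hle : ringKrullDim R₀ ≤ r := by
    rw [← PrimeSpectrum.topologicalKrullDim_eq_ringKrullDim, ← hr]
    exact g.isOpenEmbedding.isInducing.topologicalKrullDim_le
  obtain ⟨l, hl⟩ := Order.le_krullDim_iff.1 hdim
  let P := l.head.asIdeal
  haveI : P.IsPrime := l.head.isPrime
  have hdA : ringKrullDim (R₀ ⧸ P) = r := by
    refine le_antisymm ((ringKrullDim_quotient_le P).trans hle) ?_
    rw [ringKrullDim_quotient, Order.le_krullDim_iff]
    refine ⟨{ length := l.length, toFun := fun j => ⟨l j, ?_⟩, step := fun j => l.step j }, hl⟩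
    exact fun x hx => LTSeries.head_le l j hx
  refine ⟨R₀ ⧸ P, inferInstance, inferInstance, inferInstance,
    Spec.map (CommRingCat.ofHom (Ideal.Quotient.mk P)) ≫ g, ?_, inferInstance, hdA, ?_⟩
  · haveI : IsClosedImmersion (Spec.map (CommRingCat.ofHom (Ideal.Quotient.mk P))) :=
      IsClosedImmersion.spec_of_surjective _ Ideal.Quotient.mk_surjective
    infer_instance
  · rw [Category.assoc, ← hφ, ← Spec.map_comp]
    rfl

include f in
/-- Many points in many extensions. -/
theorem exists_lower (r : ℕ) (hr : topologicalKrullDim Y = r) :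
    ∃ (c : ℝ) (e m₀ : ℕ), 0 < c ∧ 0 < e ∧ ∀ m, m₀ ≤ m → e ∣ m →
      c * (Nat.card k : ℝ) ^ (r * m) ≤ Zeta.nPts f m := by
  classical
  obtain ⟨A, _, _, _, j, hj, hft, hdim, hjf⟩ := exists_piece f r hr
  haveI := hj
  haveI := hft
  obtain ⟨t, ht, halg⟩ := exists_parameters k A r hdim
  obtain ⟨A₀, _, _, _, t₀, hft₀, -, halg₀, c, Q₀, hc, hlow⟩ := points_lower r A t ht halg
  haveI := hft₀
  haveI : Algebra.IsIntegral k A₀ := ⟨fun a => by
    obtain ⟨p, hp0, hp⟩ := halg₀ a
    refine (show IsAlgebraic k a from ⟨p.map (MvPolynomial.isEmptyAlgEquiv k (Fin 0)).toRingEquiv.toRingHom, ?_, ?_⟩).isIntegral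
    · exact (Polynomial.map_ne_zero_iff (MvPolynomial.isEmptyAlgEquiv k (Fin 0)).injective).2 hp0
    · rw [Polynomial.aeval_def, Polynomial.eval₂_map]
      refine Eq.trans ?_ hp
      congr 1
      refine MvPolynomial.ringHom_ext (fun r => ?_) (fun i => i.elim0)
      show algebraMap k A₀ (MvPolynomial.isEmptyAlgEquiv k (Fin 0) (MvPolynomial.C r)) = MvPolynomial.aeval t₀ (MvPolynomial.C r)
      rw [MvPolynomial.aeval_C, show MvPolynomial.isEmptyAlgEquiv k (Fin 0) (MvPolynomial.C r) = r from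
        (MvPolynomial.isEmptyAlgEquiv k (Fin 0)).commutes r]⟩
  haveI : Module.Finite k A₀ := Algebra.IsIntegral.finite
  letI : Field A₀ := (isField_of_isIntegral_of_isField' (Field.toIsField k)).toField
  haveI : Finite A₀ := Module.finite_of_finite k
  haveI : Algebra.IsSeparable k A₀ := Algebra.IsAlgebraic.isSeparable_of_perfectField
  let e := Module.finrank k A₀
  have he : 0 < e := Module.finrank_pos
  obtain ⟨p, hp⟩ := CharP.exists k
  haveI : Fact p.Prime := ⟨CharP.char_is_prime k p⟩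
  refine ⟨c, e, Q₀ + 1, hc, he, fun m hm hem => ?_⟩
  haveI : NeZero m := ⟨by omega⟩
  let 𝔽 := ULift.{u} (FiniteField.Extension k p m)
  have hfr : Module.finrank k 𝔽 = m :=
    (ULift.algEquiv (R := k) (A := FiniteField.Extension k p m)).toLinearEquiv.finrank_eq.trans
      (FiniteField.finrank_extension k p m)
  have hQ : Nat.card 𝔽 = Nat.card k ^ m :=
    (Nat.card_congr Equiv.ulift).trans (FiniteField.natCard_extension k p m)
  have hQ₀ : Q₀ ≤ Nat.card 𝔽 := by
    rw [hQ]
    exact le_trans (by omega) (Nat.lt_pow_self (Finite.one_lt_card (α := k))).le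
  obtain ⟨ψ⟩ := FiniteField.nonempty_algHom_of_finrank_dvd (F := k) (K := A₀) (L := 𝔽) (hfr.symm ▸ hem)
  haveI : Finite (A₀ →ₐ[k] 𝔽) := finite_algHom
  have h1 : (1 : ℝ) ≤ Nat.card (A₀ →ₐ[k] 𝔽) := by
    exact_mod_cast (Nat.card_pos_iff.2 ⟨⟨ψ⟩, inferInstance⟩ : 0 < Nat.card (A₀ →ₐ[k] 𝔽))
  have h2 := hlow 𝔽 hQ₀
  have h3 : Nat.card (A →ₐ[k] 𝔽) ≤ SgaExt.pointCount f 𝔽 := by
    haveI : Finite {g : Spec (CommRingCat.of 𝔽) ⟶ Y // g ≫ f = Spec.map (CommRingCat.ofHom (algebraMap k 𝔽))} := by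
      let ι : Spec (CommRingCat.of k) ⟶ Spec (CommRingCat.of (ULift.{u} ℤ)) :=
        Spec.map (CommRingCat.ofHom ((Int.castRingHom k).comp ULift.ringEquiv.toRingHom))
      have hι : LocallyOfFiniteType ι := by
        rw [HasRingHomProperty.Spec_iff (P := @LocallyOfFiniteType)]
        exact ZetaLib.finiteType_of_finite _
      haveI : CharP 𝔽 p := charP_of_injective_algebraMap (algebraMap k 𝔽).injective p
      obtain ⟨_, _, -, h⟩ := ZetaLib.exists_bound (f ≫ ι) r hr.le
      haveI := (h p Fact.out 𝔽).1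
      exact Subtype.finite
    refine Nat.card_le_card_of_injective (fun φ => ⟨Spec.map (CommRingCat.ofHom φ.toRingHom) ≫ j, by
      rw [Category.assoc, hjf, ← Spec.map_comp, ← CommRingCat.ofHom_comp]; exact congrArg (fun g => Spec.map (CommRingCat.ofHom g)) φ.comp_algebraMap⟩) fun φ φ' h => ?_
    have h' := (cancel_mono j).1 (congrArg Subtype.val h)
    exact AlgHom.ext fun a => RingHom.congr_fun (CommRingCat.hom_ext_iff.1 (Spec.map_injective h')) a
  rw [ZetaLib.pointCount_eq_nPts f 𝔽, hfr] at h3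
  refine le_trans ?_ ((Nat.cast_le (α := ℝ)).2 h3)
  refine le_trans ?_ h2
  rw [hQ, Nat.cast_pow, ← pow_mul, mul_comm r m]
  exact le_mul_of_one_le_right (by positivity) h1

include f in
theorem nPts_le (r : ℕ) (hr : topologicalKrullDim Y ≤ r) :
    ∃ C : ℕ, ∀ d, 0 < d → Zeta.nPts f d ≤ C * Nat.card k ^ (r * d) := by
  obtain ⟨p, hp⟩ := CharP.exists k
  haveI : Fact p.Prime := ⟨CharP.char_is_prime k p⟩
  obtain ⟨C, hC⟩ := S13062.result f r hr
  refine ⟨C, fun d hd => ?_⟩
  haveI : NeZero d := ⟨hd.ne'⟩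
  have h := hC (ULift.{u} (FiniteField.Extension k p d))
  rwa [ZetaLib.pointCount_eq_nPts f,
    (ULift.algEquiv (R := k) (A := FiniteField.Extension k p d)).toLinearEquiv.finrank_eq,
    FiniteField.finrank_extension k p d] at h

include f in
/-- Many closed points of one degree. -/
theorem exists_degCount_lower (r : ℕ) (hr0 : 0 < r) (hr : topologicalKrullDim Y = r) :
    ∃ (c : ℝ) (e m₀ : ℕ), 0 < c ∧ 0 < e ∧ ∀ m, m₀ ≤ m → e ∣ m →
      c * (Nat.card k : ℝ) ^ (r * m) / m ≤ Zeta.degCount f m := by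
  classical
  obtain ⟨c, e, m₀, hc, he, hlow⟩ := exists_lower f r hr
  obtain ⟨C, hC⟩ := nPts_le f r hr.le
  set q := (Nat.card k : ℝ)
  have hq : 1 < q := Nat.one_lt_cast.2 Finite.one_lt_card
  obtain ⟨N, hN⟩ : ∃ N : ℕ, ∀ m, N ≤ m → (C : ℝ) * m ≤ c / 2 * q ^ (m / 2) := by
    have ht := (tendsto_pow_const_div_const_pow_of_one_lt 1 (one_lt_sqrt' hq : 1 < Real.sqrt q) |>.const_mul
      (((C : ℝ) + 1) * Real.sqrt q))
    rw [mul_zero] at ht
    obtain ⟨N, hN⟩ := Filter.eventually_atTop.1 (ht.eventually_le_const (by positivity : (0 : ℝ) < c / 2))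
    refine ⟨N, fun m hm => ?_⟩
    have h1 := hN m hm
    have hs : 1 ≤ Real.sqrt q := (one_lt_sqrt' hq).le
    have h2 : Real.sqrt q ^ m ≤ Real.sqrt q * q ^ (m / 2) := by
      nth_rw 3 [← Real.sq_sqrt (le_trans zero_le_one hq.le)]
      rw [← pow_mul, ← pow_succ']
      exact pow_le_pow_right₀ hs (by omega)
    rw [pow_one, mul_div_assoc', div_le_iff₀ (by positivity)] at h1
    have h3 : ((C : ℝ) + 1) * m * Real.sqrt q ≤ c / 2 * q ^ (m / 2) * Real.sqrt q := by nlinarith
    have h4 := le_of_mul_le_mul_right h3 (by positivity)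
    nlinarith [Nat.cast_nonneg (α := ℝ) m]
  refine ⟨c / 2, e, max (max m₀ N) 1, by positivity, he, fun m hm hem => ?_⟩
  have hm1 : 1 ≤ m := le_trans (le_max_right _ _) hm
  have hsum : Zeta.nPts f m ≤ m * Zeta.degCount f m + m * (C * Nat.card k ^ (r * (m / 2))) := by
    rw [Zeta.nPts, ← Nat.cons_self_properDivisors (by omega : m ≠ 0), Finset.sum_cons]
    refine Nat.add_le_add_left ?_ _
    have hterm : ∀ d ∈ m.properDivisors, d * Zeta.degCount f d ≤ C * Nat.card k ^ (r * (m / 2)) := by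
      intro d hd
      obtain ⟨hdm, hdlt⟩ := Nat.mem_properDivisors.1 hd
      have hd0 : 0 < d := Nat.pos_of_dvd_of_pos hdm (by omega)
      have hd2 : d ≤ m / 2 := by
        obtain ⟨w, rfl⟩ := hdm
        have : 2 ≤ w := by
          rcases w with _ | _ | w <;> simp at hdlt ⊢
        rw [Nat.le_div_iff_mul_le two_pos]
        exact Nat.mul_le_mul_left d this
      refine le_trans ?_ ((hC d hd0).trans (Nat.mul_le_mul_left _ (Nat.pow_le_pow_right Nat.card_pos
        (Nat.mul_le_mul_left r hd2))))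
      rw [Zeta.nPts]
      exact Finset.single_le_sum (f := fun e => e * Zeta.degCount f e) (fun _ _ => Nat.zero_le _)
        (Nat.mem_divisors.2 ⟨dvd_rfl, hd0.ne'⟩)
    refine (Finset.sum_le_card_nsmul _ _ _ hterm).trans ?_
    rw [smul_eq_mul]
    refine Nat.mul_le_mul_right _ ?_
    have h1 := Nat.card_divisors_le_self m
    rw [← Nat.cons_self_properDivisors (by omega : m ≠ 0), Finset.card_cons] at h1
    omega
  have h1 := hlow m (le_trans (le_trans (le_max_left _ _) (le_max_left _ _)) hm) hem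
  have h2 : (Zeta.nPts f m : ℝ) ≤ m * Zeta.degCount f m + m * (C * q ^ (r * (m / 2))) := by
    have := (Nat.cast_le (α := ℝ)).2 hsum
    push_cast at this
    exact this
  have h3 : (m : ℝ) * (C * q ^ (r * (m / 2))) ≤ c / 2 * q ^ (r * m) := by
    rw [← mul_assoc, mul_comm (m : ℝ)]
    refine (mul_le_mul_of_nonneg_right (hN m (le_trans (le_trans (le_max_right _ _) (le_max_left _ _)) hm))
      (by positivity)).trans ?_
    rw [mul_assoc, ← pow_add]
    refine mul_le_mul_of_nonneg_left (pow_le_pow_right₀ hq.le ?_) (by positivity)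
    calc m / 2 + r * (m / 2) ≤ r * (m / 2) + r * (m / 2) := by
          gcongr; exact Nat.le_mul_of_pos_left _ hr0
      _ = r * (2 * (m / 2)) := by ring
      _ ≤ r * m := Nat.mul_le_mul_left _ (by omega)
  rw [div_le_iff₀ (by exact_mod_cast hm1)]
  linarith

theorem natCard_residueField (f : Y ⟶ Spec (CommRingCat.of k)) [LocallyOfFiniteType f] {x : Y} {m : ℕ}
    (hm : 0 < m) (h : EGA4loc.residueDegree f x = m) : Nat.card (Y.residueField x) = Nat.card k ^ m := by
  letI := (VarDim.resHom f x).toAlgebra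
  rw [WeilLib.residueDegree_eq_finrank] at h
  haveI : Module.Finite k (Y.residueField x) := Module.finite_of_finrank_pos (by omega)
  rw [Module.natCard_eq_pow_finrank (K := k), h]

include f in
/-- The abscissa of convergence is the dimension. -/
theorem le_abscissa (r : ℕ) (hr : topologicalKrullDim Y = r) :
    ((r : ℝ) : EReal) ≤ LSeries.abscissaOfAbsConv (Zeta.arithCoeff Y) := by
  classical
  let ι : Spec (CommRingCat.of k) ⟶ Spec (CommRingCat.of (ULift.{u} ℤ)) :=
    Spec.map (CommRingCat.ofHom ((Int.castRingHom k).comp ULift.ringEquiv.toRingHom))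
  have hι : LocallyOfFiniteType ι := by
    rw [HasRingHomProperty.Spec_iff (P := @LocallyOfFiniteType)]
    exact ZetaLib.finiteType_of_finite _
  have hfin : ∀ n, 0 < n → Finite { α : Y →₀ ℕ //
      (∀ x ∈ α.support, IsClosed ({x} : Set Y)) ∧ α.prod (fun x m => Nat.card (Y.residueField x) ^ m) = n } :=
    fun n hn => finite_cycles (f ≫ ι) r hr.le hn
  by_contra hlt
  rw [not_le] at hlt
  obtain ⟨σ, hσ1, hσ2⟩ := EReal.exists_between_coe_real hlt
  have hσr : σ < r := by exact_mod_cast hσ2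
  have hsum : LSeriesSummable (Zeta.arithCoeff Y) (σ : ℂ) :=
    LSeriesSummable_of_abscissaOfAbsConv_lt_re (by simpa using hσ1)
  have hle : ∀ n : ℕ, n ≠ 0 → (Zeta.cycleNormCount Y n : ℝ) ≤
      (∑' i, ‖LSeries.term (Zeta.arithCoeff Y) (σ : ℂ) i‖) * (n : ℝ) ^ σ := by
    intro n hn
    have h1 := (hsum.norm).le_tsum n fun i _ => norm_nonneg _
    rw [LSeries.norm_term_eq, if_neg hn, Complex.ofReal_re, div_le_iff₀ (by positivity)] at h1
    refine le_trans (le_of_eq ?_) h1
    show (Zeta.cycleNormCount Y n : ℝ) = ‖((Zeta.cycleNormCount Y n : ℕ) : ℂ)‖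
    rw [Complex.norm_natCast]
  set S := ∑' i, ‖LSeries.term (Zeta.arithCoeff Y) (σ : ℂ) i‖
  rcases Nat.eq_zero_or_pos r with rfl | hr0
  · -- a closed point suffices
    have hσ0 : σ < 0 := by simpa using hσr
    haveI : CompactSpace Y := QuasiCompact.compactSpace_of_compactSpace f
    haveI : Nonempty Y := by
      by_contra hne
      rw [not_nonempty_iff] at hne
      haveI : IsEmpty (TopologicalSpace.IrreducibleCloseds Y) := ⟨fun s => hne.false s.isIrreducible'.nonempty.some⟩
      rw [topologicalKrullDim, Order.krullDim_eq_bot] at hr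
      exact WithBot.natCast_ne_bot 0 hr.symm
    obtain ⟨x, hx⟩ := IsClosed.exists_closed_singleton (isClosed_univ (X := Y)) Set.univ_nonempty
    let x' : ZetaLib.ClosedPt Y := ⟨x, hx.2⟩
    have hP : 1 < ZetaLib.ptNorm x' := ZetaLib.two_le_ptNorm (f ≫ ι) x'
    have hall : ∀ j : ℕ, 1 ≤ S * ((ZetaLib.ptNorm x' : ℝ) ^ σ) ^ j := fun j => by
      have hne : ZetaLib.ptNorm x' ^ j ≠ 0 := pow_ne_zero _ (by omega)
      haveI := hfin _ (Nat.pos_of_ne_zero hne)
      have h1 : (1 : ℝ) ≤ Zeta.cycleNormCount Y (ZetaLib.ptNorm x' ^ j) := by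
        refine Nat.one_le_cast.2 (Nat.card_pos_iff.2 ⟨⟨Finsupp.single x'.1 j, fun y hy => ?_, ?_⟩, inferInstance⟩)
        · rw [Finset.mem_singleton.1 (Finsupp.support_single_subset hy)]
          exact x'.2
        · rw [Finsupp.prod_single_index]
          · rfl
          · exact pow_zero _
      refine h1.trans ((hle _ hne).trans (le_of_eq ?_))
      rw [Nat.cast_pow, ← Real.rpow_natCast, ← Real.rpow_mul (Nat.cast_nonneg _), mul_comm (j : ℝ),
        Real.rpow_mul (Nat.cast_nonneg _), Real.rpow_natCast]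
    have ht := (tendsto_pow_atTop_nhds_zero_of_lt_one (Real.rpow_nonneg (Nat.cast_nonneg (ZetaLib.ptNorm x')) σ)
      (Real.rpow_lt_one_of_one_lt_of_neg (by exact_mod_cast hP) hσ0)).const_mul S
    rw [mul_zero] at ht
    exact absurd (ge_of_tendsto' ht hall) (by norm_num)
  obtain ⟨c, e, m₀, hc, he, hlow⟩ := exists_degCount_lower f r hr0 hr
  set q := (Nat.card k : ℝ)
  have hq : 1 < q := Nat.one_lt_cast.2 Finite.one_lt_card
  have hall : ∀ m, m₀ ≤ m → 0 < m → e ∣ m → c ≤ S * ((m : ℝ) / (q ^ ((r : ℝ) - σ)) ^ m) := by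
    intro m hm hm0 hem
    have hn : Nat.card k ^ m ≠ 0 := pow_ne_zero _ Nat.card_pos.ne'
    haveI := hfin _ (Nat.pos_of_ne_zero hn)
    have h1 : Zeta.degCount f m ≤ Zeta.cycleNormCount Y (Nat.card k ^ m) := by
      refine Nat.card_le_card_of_injective (fun x => ⟨Finsupp.single x.1 1, fun y hy => ?_, ?_⟩) fun x x' h => ?_
      · rw [Finset.mem_singleton.1 (Finsupp.support_single_subset hy)]
        exact x.2.1
      · rw [Finsupp.prod_single_index]
        · rw [pow_one]; exact natCard_residueField f hm0 x.2.2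
        · exact pow_zero _
      · exact Subtype.ext (Finsupp.single_left_injective one_ne_zero (congrArg Subtype.val h))
    have h2 := (hlow m hm hem).trans (((Nat.cast_le (α := ℝ)).2 h1).trans (hle _ hn))
    rw [div_le_iff₀ (by exact_mod_cast hm0), Nat.cast_pow, ← Real.rpow_natCast q m,
      ← Real.rpow_mul (by positivity)] at h2
    have hpos : 0 < q ^ ((r : ℝ) - σ) := by positivity
    rw [← mul_div_assoc, le_div_iff₀ (pow_pos hpos _), ← Real.rpow_natCast _ m, ← Real.rpow_mul (by positivity)]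
    have h3 : q ^ (r * m) = q ^ (((r : ℝ) - σ) * m) * q ^ ((m : ℝ) * σ) := by
      rw [← Real.rpow_add (by positivity), ← Real.rpow_natCast]
      congr 1
      push_cast
      ring
    rw [h3, ← mul_assoc] at h2
    refine le_of_mul_le_mul_right ?_ (by positivity : (0 : ℝ) < q ^ ((m : ℝ) * σ))
    exact h2.trans (le_of_eq (by ring))
  have ht := ((tendsto_pow_const_div_const_pow_of_one_lt 1
    (Real.one_lt_rpow hq (by linarith : (0 : ℝ) < (r : ℝ) - σ))).const_mul S)
  simp only [pow_one, mul_zero] at ht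
  obtain ⟨N, hN⟩ := Filter.eventually_atTop.1 (ht.eventually_lt_const hc)
  have hm : e * (m₀ + N + 1) ≥ m₀ + N + 1 := Nat.le_mul_of_pos_left _ he
  exact absurd (hall (e * (m₀ + N + 1)) (by omega) (by omega) (dvd_mul_right _ _))
    (not_le.2 (hN _ (by omega)))

end Groth.Agent.PtCount
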