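import Groth.Agent.ZetaLib.EulerProduct
import Mathlib.NumberTheory.NumberField.DedekindZeta
import Mathlib.RingTheory.Localization.FractionRing
import Mathlib.RingTheory.Localization.Away.Basic
import Mathlib.FieldTheory.IntermediateField.Adjoin.Basic

/-! Divergence of the sum of the reciprocals of the primes of degree one. -/

noncomputable section

set_option linter.style.haveILetI false

universe u

open Filter Topology NumberField

namespace Groth.Agent.PtCount

/-- Sums over monomials of a summable family indexed by the prime ideals dominate sums over ideals. -/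
theorem summable_inv_absNorm (K : Type u) [Field K] [NumberField K]
    (h : Summable fun P : {P : Ideal (𝓞 K) // Prime P} => ((Ideal.absNorm P.1 : ℕ) : ℝ)⁻¹) :
    Summable fun I : Ideal (𝓞 K) => ((Ideal.absNorm I : ℕ) : ℝ)⁻¹ := by
  classical
  let ι := {P : Ideal (𝓞 K) // Prime P}
  let z : ι → ℝ := fun P => ((Ideal.absNorm P.1 : ℕ) : ℝ)⁻¹
  have h2 : ∀ P : ι, 2 ≤ Ideal.absNorm P.1 := fun P => by
    have h0 : Ideal.absNorm P.1 ≠ 0 := fun e => P.2.ne_zero (Ideal.absNorm_eq_zero_iff.1 e)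
    have h1 : Ideal.absNorm P.1 ≠ 1 := fun e => P.2.not_isUnit (Ideal.isUnit_iff.2 (Ideal.absNorm_eq_one_iff.1 e))
    omega
  have hs : Summable (ZetaLib.mon z) := ZetaLib.summable_mon z (1 / 2) (by norm_num)
    (fun _ => by positivity) (fun P => by
      rw [one_div]
      exact inv_anti₀ two_pos (by exact_mod_cast h2 P)) h
  let Ψ : (ι →₀ ℕ) → Ideal (𝓞 K) := fun α => ZetaLib.mon (fun P : ι => P.1) α
  have hΨ : ∀ α, ZetaLib.mon z α = ((Ideal.absNorm (Ψ α) : ℕ) : ℝ)⁻¹ := fun α => by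
    simp [Ψ, z, ZetaLib.mon, Finsupp.prod, map_prod, Finset.prod_inv_distrib]
  have hsurj : ∀ I : Ideal (𝓞 K), I ≠ 0 → ∃ α, Ψ α = I := by
    intro I
    induction I using UniqueFactorizationMonoid.induction_on_prime with
    | h₁ => exact fun h => absurd rfl h
    | h₂ x hx => exact fun _ => ⟨0, by simpa [Ψ, ZetaLib.mon, Ideal.one_eq_top] using (Ideal.isUnit_iff.1 hx).symm⟩
    | h₃ a P ha hP ih =>
      intro _
      obtain ⟨α, hα⟩ := ih ha
      exact ⟨Finsupp.single ⟨P, hP⟩ 1 + α, by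
        show ZetaLib.mon _ _ = _
        rw [ZetaLib.mon_add, ZetaLib.mon_single, pow_one, ← hα]⟩
  choose s hsΨ using hsurj
  have h3 : Summable fun I : {I : Ideal (𝓞 K) // I ≠ 0} => ((Ideal.absNorm I.1 : ℕ) : ℝ)⁻¹ := by
    refine (hs.comp_injective (i := fun I : {I : Ideal (𝓞 K) // I ≠ 0} => s I.1 I.2) ?_).congr fun I => ?_
    · intro I J e
      have := congrArg Ψ e
      simp only [hsΨ] at this
      exact Subtype.ext this
    · simp only [Function.comp_apply, hΨ, hsΨ]
  refine (Subtype.val_injective.summable_iff ?_).1 h3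
  intro I hI
  have : I = 0 := by
    by_contra hne
    exact hI ⟨⟨I, hne⟩, rfl⟩
  simp [this]

/-- The Dedekind zeta function has a pole at one. -/
theorem not_summable_inv_absNorm (K : Type u) [Field K] [NumberField K] :
    ¬ Summable fun P : {P : Ideal (𝓞 K) // Prime P} => ((Ideal.absNorm P.1 : ℕ) : ℝ)⁻¹ := by
  intro h
  let a : ℕ → ℂ := fun n => (Nat.card {I : Ideal (𝓞 K) // Ideal.absNorm I = n} : ℕ)
  have h1 := ((Equiv.sigmaFiberEquiv (fun I : Ideal (𝓞 K) => Ideal.absNorm I)).summable_iff).2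
    (summable_inv_absNorm K h)
  have h2 := ((summable_sigma_of_nonneg fun x => inv_nonneg.2 (Nat.cast_nonneg _)).1 h1).2
  have h3 : Summable fun n : ℕ => (Nat.card {I : Ideal (𝓞 K) // Ideal.absNorm I = n} : ℝ) * (n : ℝ)⁻¹ := by
    refine h2.congr fun n => ?_
    rw [← nsmul_eq_mul, ← tsum_const]
    exact tsum_congr fun x => by simp [Equiv.sigmaFiberEquiv, x.2]
  set C := ∑' n : ℕ, (Nat.card {I : Ideal (𝓞 K) // Ideal.absNorm I = n} : ℝ) * (n : ℝ)⁻¹
  have hb : ∀ s : ℝ, 1 < s → ‖dedekindZeta K s‖ ≤ C := by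
    intro s hs
    have hterm : ∀ n, ‖LSeries.term a (s : ℂ) n‖ ≤
        (Nat.card {I : Ideal (𝓞 K) // Ideal.absNorm I = n} : ℝ) * (n : ℝ)⁻¹ := by
      intro n
      rw [LSeries.norm_term_eq]
      split_ifs with hn
      · positivity
      · rw [Complex.ofReal_re, Complex.norm_natCast, div_eq_mul_inv]
        refine mul_le_mul_of_nonneg_left ?_ (Nat.cast_nonneg _)
        have hn1 : (1 : ℝ) ≤ n := Nat.one_le_cast.2 (Nat.pos_of_ne_zero hn)
        refine inv_anti₀ (by positivity) ?_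
        calc (n : ℝ) = (n : ℝ) ^ (1 : ℝ) := (Real.rpow_one _).symm
          _ ≤ (n : ℝ) ^ s := Real.rpow_le_rpow_of_exponent_le hn1 hs.le
    exact tsum_of_norm_bounded h3.hasSum hterm
  have hev : ∀ᶠ s in 𝓝[>] (1 : ℝ), ‖(((s - 1 : ℝ) : ℂ)) * dedekindZeta K s‖ ≤ (s - 1) * C :=
    eventually_nhdsWithin_of_forall fun s (hs : 1 < s) => by
      rw [norm_mul, Complex.norm_real, Real.norm_of_nonneg (by linarith)]
      exact mul_le_mul_of_nonneg_left (hb s hs) (by linarith)
  have h0 : Tendsto (fun s : ℝ => ((s - 1 : ℝ) : ℂ) * dedekindZeta K s) (𝓝[>] 1) (𝓝 0) := by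
    refine squeeze_zero_norm' hev ?_
    have : Tendsto (fun s : ℝ => (s - 1) * C) (𝓝 1) (𝓝 ((1 - 1) * C)) := (Continuous.tendsto (by fun_prop) _)
    simpa using this.mono_left nhdsWithin_le_nhds
  have h4 := tendsto_nhds_unique (h0.congr fun s => by push_cast; rfl) (tendsto_sub_one_mul_dedekindZeta_nhdsGT K)
  exact dedekindZeta_residue_ne_zero K (by exact_mod_cast h4.symm)

/-- At most `d` primes above each rational prime. -/
theorem card_primes_above (K : Type u) [Field K] [NumberField K] {p : ℕ} (hp : p.Prime)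
    (u : Finset (Ideal (𝓞 K))) (hu : ∀ P ∈ u, Prime P ∧ (p : 𝓞 K) ∈ P) :
    u.card ≤ Module.finrank ℤ (𝓞 K) := by
  classical
  have hd : ∏ P ∈ u, P ∣ Ideal.span {((p : ℕ) : 𝓞 K)} :=
    Finset.prod_primes_dvd _ (fun P hP => (hu P hP).1)
      fun P hP => Ideal.dvd_iff_le.2 (by rw [Ideal.span_le]; simpa using (hu P hP).2)
  have h1 := map_dvd Ideal.absNorm hd
  rw [map_prod, Ideal.absNorm_span_natCast] at h1
  have h2 : p ^ u.card ∣ ∏ P ∈ u, Ideal.absNorm P := by
    rw [← Finset.prod_const]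
    refine Finset.prod_dvd_prod_of_dvd _ _ fun P hP => ?_
    haveI := Ideal.isPrime_of_prime (hu P hP).1
    haveI : P.IsMaximal := ‹P.IsPrime›.isMaximal (hu P hP).1.ne_zero
    obtain ⟨q, n, hn, hqP, hq, he⟩ := Ideal.exists_prime_and_absNorm_eq_pow P
    have : q = p := by
      by_contra hne
      have hco : Nat.Coprime q p := (Nat.coprime_primes hq hp).2 hne
      obtain ⟨a, b, hab⟩ : IsCoprime ((q : ℤ)) ((p : ℤ)) := Nat.isCoprime_iff_coprime.2 hco
      have h1 := congrArg (fun x : ℤ => (x : 𝓞 K)) hab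
      push_cast at h1
      exact ‹P.IsPrime›.ne_top ((Ideal.eq_top_iff_one _).2
        (h1 ▸ P.add_mem (P.mul_mem_left _ hqP) (P.mul_mem_left _ (hu P hP).2)))
    subst this
    rw [he]
    exact dvd_pow_self _ hn.ne'
  exact (Nat.pow_dvd_pow_iff_le_right hp.one_lt).1 (h2.trans h1)

/-- A prime of degree one gives points with values in the prime field. -/
theorem nonempty_hom_of_absNorm (B K : Type u) [CommRing B] [Field K] [NumberField K] [Algebra.FiniteType ℤ B]
    (g : B →+* K) :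
    ∃ N : ℕ, N ≠ 0 ∧ ∀ (p : ℕ) (P : Ideal (𝓞 K)), p.Prime → P.IsPrime → Ideal.absNorm P = p →
      ¬ p ∣ N → Nonempty (B →+* ZMod p) := by
  classical
  obtain ⟨s, hs⟩ := Algebra.FiniteType.out (R := ℤ) (A := B)
  haveI : Algebra.IsAlgebraic ℤ ℚ := IsLocalization.isAlgebraic ℚ (nonZeroDivisors ℤ)
  haveI : Algebra.IsAlgebraic ℤ K := Algebra.IsAlgebraic.trans ℤ ℚ K
  have hint : ∀ b : B, ∃ n : ℕ, n ≠ 0 ∧ IsIntegral ℤ ((n : K) * g b) := fun b => by
    obtain ⟨n, hn, hi⟩ := IsAlgebraic.exists_integral_multiple (Algebra.IsAlgebraic.isAlgebraic (R := ℤ) (g b))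
    refine ⟨n.natAbs, Int.natAbs_ne_zero.2 hn, ?_⟩
    rw [zsmul_eq_mul] at hi
    rcases Int.natAbs_eq n with e | e <;> rw [e] at hi <;> simp only [Int.cast_neg, Int.cast_natCast, neg_mul] at hi
    · exact hi
    · exact IsIntegral.neg_iff.1 hi
  choose n hn hni using hint
  let N := ∏ b ∈ s, n b
  have hN : N ≠ 0 := Finset.prod_ne_zero_iff.2 fun b _ => hn b
  refine ⟨N, hN, fun p P hp hP hnorm hpN => ?_⟩
  let C := Localization.Away (N : 𝓞 K)
  have hNK : IsUnit (algebraMap (𝓞 K) K (N : 𝓞 K)) := by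
    rw [map_natCast]; exact isUnit_iff_ne_zero.2 (Nat.cast_ne_zero.2 hN)
  let j : C →+* K := IsLocalization.Away.lift (N : 𝓞 K) hNK
  have hj : Function.Injective j := by
    refine IsLocalization.lift_injective_iff _ |>.2 fun x y => ⟨fun e => ?_, fun e => ?_⟩
    · have hle : Submonoid.powers (N : 𝓞 K) ≤ nonZeroDivisors (𝓞 K) :=
        powers_le_nonZeroDivisors_of_noZeroDivisors (Nat.cast_ne_zero.2 hN)
      rw [IsLocalization.injective C hle e]
    · rw [RingOfIntegers.coe_injective e]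
  have hr : ∀ b : B, g b ∈ j.range := by
    let S := subalgebraOfSubring (j.range.comap g)
    have : (⊤ : Subalgebra ℤ B) ≤ S := by
      rw [← hs]
      refine Algebra.adjoin_le fun b hb => ?_
      show g b ∈ j.range
      have hb' : b ∈ s := hb
      let w : 𝓞 K := ⟨_, hni b⟩
      obtain ⟨u, hu⟩ : (algebraMap (𝓞 K) C (n b : 𝓞 K)) ∣ algebraMap (𝓞 K) C (N : 𝓞 K) :=
        map_dvd _ (Nat.cast_dvd_cast (Finset.dvd_prod_of_mem n hb'))
      have hu' : IsUnit (algebraMap (𝓞 K) C (n b : 𝓞 K)) :=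
        isUnit_of_mul_isUnit_left (hu ▸ IsLocalization.Away.algebraMap_isUnit (N : 𝓞 K))
      obtain ⟨v, hv⟩ := hu'.exists_left_inv
      refine ⟨v * algebraMap (𝓞 K) C w, ?_⟩
      have e1 := congrArg j hv
      rw [map_mul, map_one, IsLocalization.Away.lift_eq, map_natCast] at e1
      rw [map_mul, IsLocalization.Away.lift_eq]
      show j v * ((n b : K) * g b) = g b
      rw [← mul_assoc, e1, one_mul]
    exact fun b => this (Algebra.mem_top (x := b))
  choose c hc using hr
  let gC : B →+* C :=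
    { toFun := c
      map_one' := hj (by rw [hc, map_one, map_one])
      map_mul' := fun x y => hj (by rw [hc, map_mul, map_mul, hc, hc])
      map_zero' := hj (by rw [hc, map_zero, map_zero])
      map_add' := fun x y => hj (by rw [hc, map_add, map_add, hc, hc]) }
  haveI : Fact p.Prime := ⟨hp⟩
  haveI : P.IsMaximal := hP.isMaximal (fun e => hp.ne_zero (hnorm.symm.trans (by rw [e, Ideal.absNorm_bot])))
  letI := Ideal.Quotient.field P
  have hcard : Nat.card (𝓞 K ⧸ P) = p := by rw [← hnorm, Ideal.absNorm_apply, Submodule.cardQuot_apply]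
  haveI : Finite (𝓞 K ⧸ P) := Nat.finite_of_card_ne_zero (by rw [hcard]; exact hp.ne_zero)
  letI := Fintype.ofFinite (𝓞 K ⧸ P)
  let e : ZMod p ≃+* 𝓞 K ⧸ P := ZMod.ringEquivOfPrime _ hp (by rwa [← Nat.card_eq_fintype_card])
  let φ : 𝓞 K →+* ZMod p := e.symm.toRingHom.comp (Ideal.Quotient.mk P)
  have hφN : IsUnit (φ (N : 𝓞 K)) := by
    rw [map_natCast]
    exact isUnit_iff_ne_zero.2 fun e => hpN ((ZMod.natCast_eq_zero_iff _ _).1 e)
  exact ⟨(IsLocalization.Away.lift (S := C) (N : 𝓞 K) hφN).comp gC⟩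

/-- The reciprocals of the primes `p` with a point with values in `𝔽_p` have divergent sum. -/
theorem not_summable_splitPrimes (B : Type u) [CommRing B] [IsDomain B] [CharZero B] [Algebra.FiniteType ℤ B]
    (halg : ∀ b : B, IsAlgebraic ℤ b) :
    ¬ Summable (Set.indicator {p : ℕ | p.Prime ∧ Nonempty (B →+* ZMod p)} fun p => (p : ℝ)⁻¹) := by
  classical
  let K := FractionRing B
  haveI : CharZero K := charZero_of_injective_algebraMap (IsFractionRing.injective B K)
  obtain ⟨s, hs⟩ := Algebra.FiniteType.out (R := ℤ) (A := B)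
  have hint : ∀ b : B, IsIntegral ℚ (algebraMap B K b) := fun b => by
    obtain ⟨q, hq0, hq⟩ := halg b
    refine IsAlgebraic.isIntegral ⟨q.map (Int.castRingHom ℚ),
      (Polynomial.map_ne_zero_iff (Int.castRingHom ℚ).injective_int).2 hq0, ?_⟩
    rw [Polynomial.aeval_def, Polynomial.eval₂_map]
    have h := congrArg (algebraMap B K) hq
    rw [map_zero, Polynomial.aeval_def, Polynomial.hom_eval₂] at h
    refine Eq.trans ?_ h
    congr 1
    exact RingHom.ext_int _ _
  let E := IntermediateField.adjoin ℚ ((algebraMap B K) '' (s : Set B))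
  have hE : E = ⊤ := by
    refine eq_top_iff.2 fun x _ => ?_
    have hB : ∀ b, algebraMap B K b ∈ E := by
      have : (⊤ : Subalgebra ℤ B) ≤ subalgebraOfSubring (E.toSubfield.toSubring.comap (algebraMap B K)) := by
        rw [← hs]
        exact Algebra.adjoin_le fun b hb => IntermediateField.subset_adjoin _ _ ⟨b, hb, rfl⟩
      exact fun b => this (Algebra.mem_top (x := b))
    obtain ⟨a, b, -, rfl⟩ := IsFractionRing.div_surjective (A := B) x
    exact E.div_mem (hB a) (hB b)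
  haveI : Finite ((algebraMap B K) '' (s : Set B)) := (s.finite_toSet.image _).to_subtype
  haveI : FiniteDimensional ℚ E := IntermediateField.finiteDimensional_adjoin fun x hx => by
    obtain ⟨b, -, rfl⟩ := hx
    exact hint b
  haveI : FiniteDimensional ℚ K := Module.Finite.equiv
    ((IntermediateField.equivOfEq hE).trans IntermediateField.topEquiv).toLinearEquiv
  haveI : NumberField K := { }
  obtain ⟨N, hN, hgood⟩ := nonempty_hom_of_absNorm B K (algebraMap B K)
  intro hsum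
  let g : ℕ → ℝ := fun p => Set.indicator {p : ℕ | p.Prime ∧ Nonempty (B →+* ZMod p)} (fun p => (p : ℝ)⁻¹) p +
    (if p ∣ N then 1 else 0) + (p : ℝ)⁻¹ ^ 2
  have hg0 : ∀ p, 0 ≤ g p := fun p => by
    have := Set.indicator_nonneg (s := {p : ℕ | p.Prime ∧ Nonempty (B →+* ZMod p)})
      (f := fun p => (p : ℝ)⁻¹) (fun p _ => by positivity) p
    simp only [g]
    split_ifs <;> positivity
  have hg : Summable g := by
    refine (hsum.add (summable_of_ne_finset_zero (s := N.divisors) fun p hp => ?_)).add ?_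
    · rw [if_neg]
      exact fun h => hp (Nat.mem_divisors.2 ⟨h, hN⟩)
    · simpa [inv_pow] using Real.summable_nat_pow_inv.2 one_lt_two
  have hP : ∀ P : {P : Ideal (𝓞 K) // Prime P}, ∃ p : ℕ, p.Prime ∧ ((p : ℕ) : 𝓞 K) ∈ P.1 ∧
      ((Ideal.absNorm P.1 : ℕ) : ℝ)⁻¹ ≤ g p := by
    intro P
    haveI := Ideal.isPrime_of_prime P.2
    haveI : P.1.IsMaximal := ‹P.1.IsPrime›.isMaximal P.2.ne_zero
    obtain ⟨p, n, hn, hpP, hp, he⟩ := Ideal.exists_prime_and_absNorm_eq_pow P.1
    refine ⟨p, hp, hpP, ?_⟩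
    have hp1 : (1 : ℝ) ≤ p := by exact_mod_cast hp.one_le
    have hnn := Set.indicator_nonneg (s := {p : ℕ | p.Prime ∧ Nonempty (B →+* ZMod p)})
      (f := fun p => (p : ℝ)⁻¹) (fun p _ => by positivity) p
    have hinv : (p : ℝ)⁻¹ ≤ 1 := inv_le_one_of_one_le₀ hp1
    simp only [g]
    rw [he, Nat.cast_pow, ← inv_pow]
    rcases eq_or_ne n 1 with rfl | hn1
    · rw [pow_one]
      rw [pow_one] at he
      by_cases hpN : p ∣ N
      · rw [if_pos hpN]
        have : (0 : ℝ) ≤ (p : ℝ)⁻¹ ^ 2 := by positivity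
        linarith
      · rw [if_neg hpN, Set.indicator_of_mem (show p ∈ {p : ℕ | p.Prime ∧ Nonempty (B →+* ZMod p)} from
          ⟨hp, hgood p P.1 hp inferInstance he hpN⟩)]
        have : (0 : ℝ) ≤ (p : ℝ)⁻¹ ^ 2 := by positivity
        linarith
    · have h2 : (p : ℝ)⁻¹ ^ n ≤ (p : ℝ)⁻¹ ^ 2 := pow_le_pow_of_le_one (by positivity) hinv (by omega)
      split_ifs <;> linarith
  choose π hπ hπP hle using hP
  refine not_summable_inv_absNorm K (summable_of_sum_le (c := Module.finrank ℤ (𝓞 K) * ∑' p, g p)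
    (fun P => by positivity) fun u => ?_)
  calc ∑ P ∈ u, ((Ideal.absNorm P.1 : ℕ) : ℝ)⁻¹ ≤ ∑ P ∈ u, g (π P) := Finset.sum_le_sum fun P _ => hle P
    _ = ∑ p ∈ u.image π, ((u.filter fun P => π P = p).card : ℝ) * g p := by
      rw [Finset.sum_image' (g := π) (h := fun P => g (π P))]
      intro P _
      rw [Finset.sum_congr rfl (g := fun _ => g (π P)) fun j hj => by rw [(Finset.mem_filter.1 hj).2],
        Finset.sum_const, nsmul_eq_mul]
    _ ≤ ∑ p ∈ u.image π, (Module.finrank ℤ (𝓞 K) : ℝ) * g p := by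
      refine Finset.sum_le_sum fun p hp => mul_le_mul_of_nonneg_right (Nat.cast_le.2 ?_) (hg0 p)
      obtain ⟨P₀, -, rfl⟩ := Finset.mem_image.1 hp
      rw [← Finset.card_map (Function.Embedding.subtype _)]
      refine card_primes_above K (hπ P₀) _ fun P hP => ?_
      obtain ⟨Q, hQ, rfl⟩ := Finset.mem_map.1 hP
      exact ⟨Q.2, (Finset.mem_filter.1 hQ).2 ▸ hπP Q⟩
    _ ≤ Module.finrank ℤ (𝓞 K) * ∑' p, g p := by
      rw [← Finset.mul_sum]
      exact mul_le_mul_of_nonneg_left (hg.sum_le_tsum _ fun p _ => hg0 p) (Nat.cast_nonneg _)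

end Groth.Agent.PtCount
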