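import Groth.Agent.PtCount.FiniteField
import Groth.Agent.PtCount.SplitPrimes
import Groth.Agent.S0554
import Mathlib.RingTheory.KrullDimension.PID
import Mathlib.AlgebraicGeometry.Morphisms.Finite

/-! The abscissa of convergence of the zeta function of an arithmetic scheme. -/

noncomputable section

set_option linter.style.haveILetI false
set_option linter.unusedSectionVars false
set_option backward.isDefEq.respectTransparency false
set_option backward.isDefEq.respectTransparency.types false
set_option maxHeartbeats 1000000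

universe u

open CategoryTheory AlgebraicGeometry

namespace Groth.Agent.PtCount

/-- An integral affine piece of top dimension, over any base ring. -/
theorem exists_piece' {R : Type u} [CommRing R] {Y : Scheme.{u}} (f : Y ⟶ Spec (CommRingCat.of R))
    [LocallyOfFiniteType f] (r : ℕ) (hr : topologicalKrullDim Y = r) :
    ∃ (A : Type u) (_ : CommRing A) (_ : IsDomain A) (_ : Algebra R A) (j : Spec (CommRingCat.of A) ⟶ Y),
      IsPreimmersion j ∧ Algebra.FiniteType R A ∧ ringKrullDim A = r ∧
        j ≫ f = Spec.map (CommRingCat.ofHom (algebraMap R A)) := by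
  let U : Y.affineCover.I₀ → TopologicalSpace.Opens Y := fun i => (Y.affineCover.f i).opensRange
  have hcov : ⨆ i, U i = ⊤ := Y.affineCover.iSup_opensRange
  have hd := S5798.result Y _ U hcov
  obtain ⟨i, hi⟩ : ∃ i, (r : WithBot ℕ∞) ≤ topologicalKrullDim (U i) := by
    rw [hr] at hd
    rcases r with _ | r
    · have h0 := (WithBot.bot_lt_coe ((0 : ℕ) : ℕ∞)).trans_eq hd
      obtain ⟨i, hi⟩ := lt_iSup_iff.1 h0
      exact ⟨i, zero_le_of_bot_lt hi⟩
    · have h0 := lt_of_lt_of_eq (show ((r : ℕ) : WithBot ℕ∞) < ((r + 1 : ℕ) : WithBot ℕ∞) by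
        exact_mod_cast Nat.lt_succ_self r) hd
      obtain ⟨i, hi⟩ := lt_iSup_iff.1 h0
      exact ⟨i, succ_le_of_lt hi⟩
  have hU : IsAffineOpen (U i) := isAffineOpen_opensRange _
  let R₀ := Γ(Y, U i)
  let g : Spec R₀ ⟶ Y := hU.fromSpec
  obtain ⟨φ, hφ⟩ := Spec.map_surjective (g ≫ f)
  letI : Algebra R R₀ := φ.hom.toAlgebra
  haveI : Algebra.FiniteType R R₀ := by
    have : LocallyOfFiniteType (Spec.map φ) := hφ ▸ inferInstance
    rw [HasRingHomProperty.Spec_iff (P := @LocallyOfFiniteType)] at this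
    exact this
  have hdim : (r : WithBot ℕ∞) ≤ ringKrullDim R₀ := by
    refine hi.trans (le_of_eq ?_)
    rw [← PrimeSpectrum.topologicalKrullDim_eq_ringKrullDim]
    exact IsHomeomorph.topologicalKrullDim_eq _ hU.isoSpec.hom.homeomorph.isHomeomorph
  have hle : ringKrullDim R₀ ≤ r := by
    rw [← PrimeSpectrum.topologicalKrullDim_eq_ringKrullDim, ← hr]
    exact g.isOpenEmbedding.isInducing.topologicalKrullDim_le
  obtain ⟨l, hl⟩ := Order.le_krullDim_iff.1 hdim
  let P := l.head.asIdeal
  haveI : P.IsPrime := l.head.isPrime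
  have hdA : ringKrullDim (R₀ ⧸ P) = r := by
    refine le_antisymm ((ringKrullDim_quotient_le P).trans hle) ?_
    rw [ringKrullDim_quotient, Order.le_krullDim_iff]
    refine ⟨{ length := l.length, toFun := fun j => ⟨l j, ?_⟩, step := fun j => l.step j }, hl⟩
    exact fun x hx => LTSeries.head_le l j hx
  refine ⟨R₀ ⧸ P, inferInstance, inferInstance, inferInstance,
    Spec.map (CommRingCat.ofHom (Ideal.Quotient.mk P)) ≫ g, ?_, inferInstance, hdA, ?_⟩
  · haveI : IsClosedImmersion (Spec.map (CommRingCat.ofHom (Ideal.Quotient.mk P))) :=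
      IsClosedImmersion.spec_of_surjective _ Ideal.Quotient.mk_surjective
    infer_instance
  · rw [Category.assoc, ← hφ, ← Spec.map_comp]
    rfl

variable {X : Scheme.{u}} (f : X ⟶ Spec (CommRingCat.of (ULift.{u} ℤ))) [LocallyOfFiniteType f]

include f in
theorem isClosed_of_finite_residueField {x : X} (h : Finite (X.residueField x)) : IsClosed ({x} : Set X) := by
  haveI : IsJacobsonRing (ULift.{u} ℤ) := (isJacobsonRing_iso ULift.ringEquiv).2 ZetaLib.isJacobsonRing_int
  haveI : JacobsonSpace X := LocallyOfFiniteType.jacobsonSpace f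
  rw [isClosed_singleton_iff_locallyOfFiniteType]
  obtain ⟨φ, hφ⟩ := Spec.map_surjective (X.fromSpecResidueField x ≫ f)
  have : LocallyOfFiniteType (X.fromSpecResidueField x ≫ f) := by
    rw [← hφ, HasRingHomProperty.Spec_iff (P := @LocallyOfFiniteType)]
    exact ZetaLib.finiteType_of_finite _
  exact locallyOfFiniteType_of_comp _ f

include f in
/-- The counts of an immersed scheme are at most those of the ambient one. -/
theorem abscissa_mono [QuasiCompact f] (r : ℕ) (hr : topologicalKrullDim X ≤ r) {Y : Scheme.{u}} (j : Y ⟶ X)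
    [IsPreimmersion j] [LocallyOfFiniteType (j ≫ f)] :
    LSeries.abscissaOfAbsConv (Zeta.arithCoeff Y) ≤ LSeries.abscissaOfAbsConv (Zeta.arithCoeff X) := by
  have hbij : ∀ y : Y, Function.Bijective (j.residueFieldMap y).hom := fun y => by
    refine ⟨(j.residueFieldMap y).hom.injective, fun b => ?_⟩
    obtain ⟨b', rfl⟩ := Y.residue_surjective y b
    obtain ⟨c, rfl⟩ := j.stalkMap_surjective y b'
    exact ⟨X.residue (j y) c, congrArg (fun φ : X.presheaf.stalk (j y) ⟶ Y.residueField y => φ.hom c) (Scheme.residue_residueFieldMap j y)⟩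
  have hcard : ∀ y : Y, Nat.card (X.residueField (j y)) = Nat.card (Y.residueField y) := fun y =>
    Nat.card_congr (Equiv.ofBijective _ (hbij y))
  have hcl : ∀ y : Y, IsClosed ({y} : Set Y) → IsClosed ({j y} : Set X) := fun y hy => by
    haveI : Finite (Y.residueField y) := ZetaLib.finite_residueField (j ≫ f) hy
    exact isClosed_of_finite_residueField f (Finite.of_equiv _ (Equiv.ofBijective _ (hbij y)).symm)
  have hle : ∀ n, n ≠ 0 → Zeta.cycleNormCount Y n ≤ Zeta.cycleNormCount X n := by
    intro n hn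
    classical
    haveI := finite_cycles f r hr (Nat.pos_of_ne_zero hn)
    have hinj : Function.Injective (j : Y → X) := j.isEmbedding.injective
    refine Nat.card_le_card_of_injective (fun α => ⟨Finsupp.mapDomain j α.1, fun x hx => ?_, ?_⟩) fun α β e => ?_
    · obtain ⟨y, hy, rfl⟩ := Finset.mem_image.1 (Finsupp.mapDomain_support hx)
      exact hcl y (α.2.1 y hy)
    · rw [Finsupp.prod_mapDomain_index_inj hinj]
      refine Eq.trans ?_ α.2.2
      exact Finset.prod_congr rfl fun y _ => by simp only [hcard]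
    · exact Subtype.ext (Finsupp.mapDomain_injective hinj (congrArg Subtype.val e))
  refine LSeries.abscissaOfAbsConv_le_of_forall_lt_LSeriesSummable' fun y hy => ?_
  have hX := (LSeriesSummable_of_abscissaOfAbsConv_lt_re (s := (y : ℂ)) (by simpa using hy)).norm
  refine Summable.of_norm_bounded hX fun n => ?_
  rcases eq_or_ne n 0 with rfl | hn
  · simp
  · rw [LSeries.norm_term_eq, LSeries.norm_term_eq, if_neg hn, if_neg hn]
    refine div_le_div_of_nonneg_right ?_ (by positivity)
    simp only [Zeta.arithCoeff, Complex.norm_natCast]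
    exact_mod_cast hle n hn

theorem relAlg_isAlgebraic {A : Type u} [CommRing A] [Algebra (ULift.{u} ℤ) A] (t : Fin 0 → A) (a : A)
    (h : RelAlg (ULift.{u} ℤ) t a) : IsAlgebraic ℤ a := by
  obtain ⟨q, hq0, hq⟩ := h
  let e : MvPolynomial (Fin 0) (ULift.{u} ℤ) ≃+* ℤ :=
    (MvPolynomial.isEmptyAlgEquiv (ULift.{u} ℤ) (Fin 0)).toRingEquiv.trans ULift.ringEquiv
  refine ⟨q.map e.toRingHom, (Polynomial.map_ne_zero_iff e.injective).2 hq0, ?_⟩
  rw [Polynomial.aeval_def, Polynomial.eval₂_map]
  refine Eq.trans ?_ hq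
  congr 1
  have h : (MvPolynomial.aeval (R := ULift.{u} ℤ) t).toRingHom.comp e.symm.toRingHom = algebraMap ℤ A :=
    RingHom.ext_int _ _
  rw [← h]
  exact RingHom.ext fun x => congrArg (MvPolynomial.aeval (R := ULift.{u} ℤ) t) (e.symm_apply_apply x)

/-- Parameters of an arithmetic domain. -/
theorem exists_parameters_int (A : Type u) [CommRing A] [IsDomain A] [Algebra (ULift.{u} ℤ) A]
    [Algebra.FiniteType (ULift.{u} ℤ) A] (hinj : Function.Injective (algebraMap (ULift.{u} ℤ) A)) :
    ∃ (n : ℕ) (t : Fin n → A), AlgebraicIndependent (ULift.{u} ℤ) t ∧ (∀ a, RelAlg (ULift.{u} ℤ) t a) ∧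
      ringKrullDim A ≤ ((n + 1 : ℕ) : WithBot ℕ∞) := by
  classical
  let R := ULift.{u} ℤ
  haveI : IsDomain R := MulEquiv.isDomain ℤ (ULift.ringEquiv (R := ℤ)).toMulEquiv
  haveI := (faithfulSMul_iff_algebraMap_injective R A).2 hinj
  obtain ⟨s, hs⟩ := exists_isTranscendenceBasis R A
  have hlt : Cardinal.mk s < Cardinal.aleph0 := by
    rw [hs.cardinalMk_eq_trdeg]; exact trdeg_lt_aleph0_of_finiteType
  haveI : Finite s := Cardinal.lt_aleph0_iff_finite.1 hlt
  let n := Nat.card s
  let e : Fin n ≃ s := (Finite.equivFin s).symm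
  have hn : Algebra.trdeg R A = n := by
    rw [← hs.cardinalMk_eq_trdeg, Nat.cast_card]
  refine ⟨n, Subtype.val ∘ e, hs.1.comp e e.injective, fun a => ?_, ?_⟩
  · haveI := hs.isAlgebraic
    obtain ⟨p, hp0, hp⟩ := Algebra.IsAlgebraic.isAlgebraic (R := Algebra.adjoin R (Set.range (Subtype.val : s → A))) a
    let E := ((hs.1.comp e e.injective).aevalEquiv.trans
      (Subalgebra.equivOfEq _ _ (by rw [Set.range_comp, e.range_eq_univ, Set.image_univ])) :
      MvPolynomial (Fin n) R ≃ₐ[R] Algebra.adjoin R (Set.range (Subtype.val : s → A)))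
    refine ⟨p.map E.symm.toRingEquiv.toRingHom, (Polynomial.map_ne_zero_iff E.symm.injective).2 hp0, ?_⟩
    rw [Polynomial.eval₂_map]
    refine Eq.trans ?_ hp
    rw [Polynomial.aeval_def]
    congr 1
    refine RingHom.ext fun x => ?_
    obtain ⟨y, rfl⟩ := E.surjective x
    show MvPolynomial.aeval (Subtype.val ∘ e) (E.symm (E y)) = _
    rw [E.symm_apply_apply]
    exact ((hs.1.comp e e.injective).algebraMap_aevalEquiv y).symm
  · haveI : IsNoetherianRing R := isNoetherianRing_of_ringEquiv ℤ ULift.ringEquiv.symm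
    refine iSup_le fun l => ?_
    let q := l.last.asIdeal
    haveI : q.IsPrime := l.last.isPrime
    let p := q.under R
    have h := S0554.result R A p q
    have hp : p.height ≤ 1 := by
      have h1 : (p.height : WithBot ℕ∞) ≤ ringKrullDim R := Ideal.height_le_ringKrullDim_of_isPrime
      rw [ringKrullDim_eq_of_ringEquiv (ULift.ringEquiv (R := ℤ)),
        (inferInstance : IsPrincipalIdealRing ℤ).ringKrullDim_eq_one ℤ Int.not_isField] at h1
      exact WithBot.coe_le_coe.1 h1
    have h2 : (q.height : Cardinal.{u}) ≤ ((n + 1 : ℕ) : ℕ∞) := by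
      refine (le_trans le_self_add h).trans ?_
      rw [hn, Nat.cast_add, Nat.cast_one, add_comm (n : ℕ∞), Cardinal.ofENat_add, Cardinal.ofENat_nat]
      exact add_le_add (Cardinal.ofENat_le_ofENat.2 hp) le_rfl
    have h3 : (l.length : ℕ∞) ≤ q.height := by
      rw [PrimeSpectrum.height_eq_orderHeight]
      exact Order.length_le_height (le_refl l.last)
    exact WithBot.coe_le_coe.2 (h3.trans (Cardinal.ofENat_le_ofENat.1 h2))

theorem exists_natCast_eq {p : ℕ} [Fact p.Prime] (b : ULift.{u} (ZMod p)) : ∃ n : ℕ, (n : ULift.{u} (ZMod p)) = b :=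
  ⟨b.down.val, ULift.ext _ _ (ZMod.natCast_zmod_val b.down)⟩

include f in
/-- Points with values in a prime field are closed points of that norm. -/
theorem card_homs_le [QuasiCompact f] (r : ℕ) (hr : topologicalKrullDim X ≤ r) {A : Type u} [CommRing A]
    [Algebra (ULift.{u} ℤ) A] (j : Spec (CommRingCat.of A) ⟶ X) [IsPreimmersion j] {p : ℕ} [Fact p.Prime]
    [Algebra (ULift.{u} ℤ) (ULift.{u} (ZMod p))] :
    Nat.card (A →ₐ[ULift.{u} ℤ] ULift.{u} (ZMod p)) ≤ Zeta.cycleNormCount X p := by
  classical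
  let 𝔽 := ULift.{u} (ZMod p)
  let g : (A →ₐ[ULift.{u} ℤ] 𝔽) → (Spec (CommRingCat.of 𝔽) ⟶ X) := fun φ =>
    Spec.map (CommRingCat.ofHom φ.toRingHom) ≫ j
  let y : (A →ₐ[ULift.{u} ℤ] 𝔽) → X := fun φ => g φ (IsLocalRing.closedPoint 𝔽)
  have hy : ∀ φ, Finite (X.residueField (y φ)) ∧ Nat.card (X.residueField (y φ)) = p := fun φ => by
    let ψ := (Scheme.descResidueField (Scheme.stalkClosedPointTo (g φ))).hom
    have hsurj : Function.Surjective ψ := fun b => by
      obtain ⟨n, hn⟩ := exists_natCast_eq b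
      exact ⟨(n : X.residueField (y φ)), (map_natCast ψ n).trans hn⟩
    haveI : Finite (X.residueField (y φ)) := Finite.of_injective ψ ψ.injective
    refine ⟨this, ?_⟩
    rw [Nat.card_congr (Equiv.ofBijective ψ ⟨ψ.injective, hsurj⟩), Nat.card_congr Equiv.ulift, Nat.card_zmod]
  have hyi : Function.Injective y := fun φ φ' e => by
    have e1 := j.isEmbedding.injective e
    have hker : RingHom.ker φ.toRingHom = RingHom.ker φ'.toRingHom := by
      have h := congrArg PrimeSpectrum.asIdeal e1
      change Ideal.comap φ.toRingHom (IsLocalRing.maximalIdeal 𝔽) =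
        Ideal.comap φ'.toRingHom (IsLocalRing.maximalIdeal 𝔽) at h
      rwa [IsLocalRing.maximalIdeal_eq_bot, ← RingHom.ker_eq_comap_bot, ← RingHom.ker_eq_comap_bot] at h
    refine AlgHom.ext fun a => ?_
    obtain ⟨n, hn⟩ := exists_natCast_eq (φ a)
    have : a - n ∈ RingHom.ker φ.toRingHom := by
      rw [RingHom.mem_ker, map_sub, map_natCast, hn]
      exact sub_self _
    rw [hker, RingHom.mem_ker, map_sub, map_natCast, sub_eq_zero, hn] at this
    exact this.symm
  haveI := finite_cycles f r hr (Fact.out : p.Prime).pos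
  refine Nat.card_le_card_of_injective (fun φ => ⟨Finsupp.single (y φ) 1, fun x hx => ?_, ?_⟩) fun φ φ' e => ?_
  · rw [Finset.mem_singleton.1 (Finsupp.support_single_subset hx)]
    exact isClosed_of_finite_residueField f (hy φ).1
  · rw [Finsupp.prod_single_index]
    · rw [pow_one]; exact (hy φ).2
    · exact pow_zero _
  · exact hyi (Finsupp.single_left_injective one_ne_zero (congrArg Subtype.val e))

include f in
theorem le_abscissa_int [QuasiCompact f] (r : ℕ) (hr : topologicalKrullDim X = r) :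
    ((r : ℝ) : EReal) ≤ LSeries.abscissaOfAbsConv (Zeta.arithCoeff X) := by
  classical
  obtain ⟨A, _, _, _, j, hj, hft, hdim, hjf⟩ := exists_piece' f r hr
  haveI := hj
  haveI := hft
  let R := ULift.{u} ℤ
  haveI : LocallyOfFiniteType (j ≫ f) := by
    rw [hjf, HasRingHomProperty.Spec_iff (P := @LocallyOfFiniteType)]
    exact RingHom.finiteType_algebraMap.2 hft
  obtain ⟨p, hp⟩ := CharP.exists A
  rcases CharP.char_is_prime_or_zero A p with hprime | rfl
  · haveI : Fact p.Prime := ⟨hprime⟩
    let k := ULift.{u} (ZMod p)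
    let ψ : k →+* A := (ZMod.castHom dvd_rfl A).comp ULift.ringEquiv.toRingHom
    have hψ : ψ.FiniteType := by
      refine RingHom.FiniteType.of_comp_finiteType
        (f := (ULift.ringEquiv.symm.toRingHom.comp (Int.castRingHom (ZMod p))).comp ULift.ringEquiv.toRingHom) ?_
      have he : ψ.comp ((ULift.ringEquiv.symm.toRingHom.comp (Int.castRingHom (ZMod p))).comp
          ULift.ringEquiv.toRingHom) = algebraMap R A := by
        refine RingHom.ext fun x => ?_
        obtain ⟨x⟩ := x
        refine Eq.trans ?_ (map_intCast (algebraMap R A) x).symm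
        show ZMod.castHom dvd_rfl A ((x : ℤ) : ZMod p) = (x : A)
        exact map_intCast _ x
      rw [he]
      exact RingHom.finiteType_algebraMap.2 hft
    haveI : LocallyOfFiniteType (Spec.map (CommRingCat.ofHom ψ)) := by
      rw [HasRingHomProperty.Spec_iff (P := @LocallyOfFiniteType)]; exact hψ
    refine (le_abscissa (Spec.map (CommRingCat.ofHom ψ)) r ?_).trans (abscissa_mono f r hr.le j)
    exact (PrimeSpectrum.topologicalKrullDim_eq_ringKrullDim A).trans hdim
  haveI : CharZero A := CharP.charP_to_charZero A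
  have hinj : Function.Injective (algebraMap R A) := by
    intro x y h
    obtain ⟨x⟩ := x
    obtain ⟨y⟩ := y
    have hc : ∀ z : ℤ, algebraMap R A ⟨z⟩ = (z : A) := fun z => map_intCast (algebraMap R A) z
    rw [hc, hc] at h
    exact congrArg ULift.up (Int.cast_injective h)
  obtain ⟨n, t, ht, halg, hn⟩ := exists_parameters_int A hinj
  obtain ⟨A₀, _, _, _, t₀, hft₀, ht₀, halg₀, c, Q₀, hc, hlow⟩ := points_lower n A t ht halg
  haveI := hft₀
  haveI : CharZero A₀ := by
    refine charZero_of_inj_zero fun m hm => ?_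
    have h1 : algebraMap R A₀ (m : R) = algebraMap R A₀ 0 := by rw [map_natCast, hm, map_zero]
    simpa using congrArg (ULift.ringEquiv (R := ℤ)) (ht₀.algebraMap_injective h1)
  haveI : Algebra.FiniteType ℤ A₀ := ZetaLib.finiteType_int_of_hom (algebraMap R A₀) (RingHom.finiteType_algebraMap.2 hft₀)
  by_contra hlt
  rw [not_le] at hlt
  obtain ⟨σ, hσ1, hσ2⟩ := EReal.exists_between_coe_real hlt
  have hσr : σ < r := by exact_mod_cast hσ2
  have hsum : LSeriesSummable (Zeta.arithCoeff X) (σ : ℂ) :=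
    LSeriesSummable_of_abscissaOfAbsConv_lt_re (by simpa using hσ1)
  have hrn : r ≤ n + 1 := by
    rw [hdim] at hn
    exact_mod_cast hn
  apply not_summable_splitPrimes A₀ (fun b => relAlg_isAlgebraic t₀ b (halg₀ b))
  refine ((hsum.norm.mul_left c⁻¹).add (summable_of_ne_finset_zero (s := Finset.range Q₀)
    (f := fun p : ℕ => if p < Q₀ then (p : ℝ)⁻¹ else 0) fun p hp => if_neg (by simpa using hp))).of_nonneg_of_le
    (fun p => Set.indicator_nonneg (fun p _ => by positivity) p) fun p => ?_
  by_cases hp' : p ∈ {p : ℕ | p.Prime ∧ Nonempty (A₀ →+* ZMod p)}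
  swap
  · rw [Set.indicator_of_notMem hp']
    split_ifs <;> positivity
  rw [Set.indicator_of_mem hp']
  obtain ⟨hpp, ⟨φ⟩⟩ := hp'
  by_cases hpQ : p < Q₀
  · rw [if_pos hpQ]
    exact le_add_of_nonneg_left (by positivity)
  rw [if_neg hpQ, add_zero]
  haveI : Fact p.Prime := ⟨hpp⟩
  let 𝔽 := ULift.{u} (ZMod p)
  letI : Algebra R 𝔽 := ((Int.castRingHom 𝔽).comp ULift.ringEquiv.toRingHom).toAlgebra
  have hR : ∀ (g : R →+* 𝔽), g = algebraMap R 𝔽 := fun g => by
    refine RingHom.ext fun x => ?_
    obtain ⟨x⟩ := x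
    exact (map_intCast g x).trans (map_intCast (algebraMap R 𝔽) x).symm
  let φ' : A₀ →ₐ[R] 𝔽 := ⟨ULift.ringEquiv.symm.toRingHom.comp φ, fun x => RingHom.congr_fun (hR
    ((ULift.ringEquiv.symm.toRingHom.comp φ).comp (algebraMap R A₀))) x⟩
  haveI : Finite (A₀ →ₐ[R] 𝔽) := finite_algHom
  have h1 : (1 : ℝ) ≤ Nat.card (A₀ →ₐ[R] 𝔽) := by
    exact_mod_cast (Nat.card_pos_iff.2 ⟨⟨φ'⟩, inferInstance⟩ : 0 < Nat.card (A₀ →ₐ[R] 𝔽))
  have hcard : Nat.card 𝔽 = p := (Nat.card_congr Equiv.ulift).trans (Nat.card_zmod p)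
  have h2 := hlow 𝔽 (by omega)
  rw [hcard] at h2
  have h3 : c * (p : ℝ) ^ n ≤ Zeta.cycleNormCount X p :=
    ((le_mul_of_one_le_right (by positivity) h1).trans h2).trans (Nat.cast_le.2 (card_homs_le f r hr.le j))
  rw [LSeries.norm_term_eq, if_neg hpp.ne_zero, Complex.ofReal_re]
  simp only [Zeta.arithCoeff, Complex.norm_natCast]
  have hp0 : (0 : ℝ) < p := Nat.cast_pos.2 hpp.pos
  rw [le_inv_mul_iff₀ hc]
  refine le_trans ?_ (div_le_div_of_nonneg_right h3 (by positivity))
  rw [mul_div_assoc, ← Real.rpow_natCast, ← Real.rpow_sub hp0, ← Real.rpow_neg_one]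
  refine mul_le_mul_of_nonneg_left (Real.rpow_le_rpow_of_exponent_le (by exact_mod_cast hpp.one_le) ?_) hc.le
  have : (r : ℝ) ≤ (n : ℝ) + 1 := by exact_mod_cast hrn
  linarith

end Groth.Agent.PtCount
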