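import Groth.Agent.PtCount.StepField

/-! Lower bounds for the number of points of a variety with values in finite fields. -/

noncomputable section

set_option linter.style.haveILetI false
set_option linter.unusedSectionVars false

universe u

open Polynomial

namespace Groth.Agent.PtCount

/-- A variety of dimension `n` has at least a constant times `q ^ n` times the number of points of an
algebraic base. -/
theorem points_lower {R : Type u} [CommRing R] : ∀ (n : ℕ) (A : Type u) [CommRing A] [IsDomain A] [Algebra R A]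
    [Algebra.FiniteType R A] (t : Fin n → A), AlgebraicIndependent R t → (∀ a, RelAlg R t a) →
    ∃ (A₀ : Type u) (_ : CommRing A₀) (_ : IsDomain A₀) (_ : Algebra R A₀) (t₀ : Fin 0 → A₀),
      Algebra.FiniteType R A₀ ∧ AlgebraicIndependent R t₀ ∧ (∀ a, RelAlg R t₀ a) ∧
      ∃ (c : ℝ) (Q₀ : ℕ), 0 < c ∧ ∀ (𝔽 : Type u) [Field 𝔽] [Finite 𝔽] [Algebra R 𝔽], Q₀ ≤ Nat.card 𝔽 →
        c * (Nat.card 𝔽 : ℝ) ^ n * Nat.card (A₀ →ₐ[R] 𝔽) ≤ Nat.card (A →ₐ[R] 𝔽) := by
  intro n
  induction n with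
  | zero =>
    intro A _ _ _ hft t ht halg
    exact ⟨A, inferInstance, inferInstance, inferInstance, t, hft, ht, halg, 1, 0, one_pos,
      fun 𝔽 _ _ _ _ => by simp⟩
  | succ n ih =>
    intro A _ _ _ hft t ht halg
    obtain ⟨B, _, _, _, tB, hBft, htB, hBalg, c, Q₀, hc, hstep⟩ := step t ht halg
    obtain ⟨A₀, _, _, _, t₀, h1, h2, h3, c', Q₀', hc', hih⟩ := ih B tB htB hBalg
    refine ⟨A₀, inferInstance, inferInstance, inferInstance, t₀, h1, h2, h3, c * c', max Q₀ Q₀',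
      mul_pos hc hc', fun 𝔽 _ _ _ hQ => ?_⟩
    refine le_trans ?_ (hstep 𝔽 ((le_max_left _ _).trans hQ))
    have h := mul_le_mul_of_nonneg_left (hih 𝔽 ((le_max_right _ _).trans hQ))
      (mul_nonneg hc.le (Nat.cast_nonneg (α := ℝ) (Nat.card 𝔽)))
    calc c * c' * (Nat.card 𝔽 : ℝ) ^ (n + 1) * Nat.card (A₀ →ₐ[R] 𝔽)
        = c * (Nat.card 𝔽 : ℝ) * (c' * (Nat.card 𝔽 : ℝ) ^ n * Nat.card (A₀ →ₐ[R] 𝔽)) := by ring
      _ ≤ _ := h

end Groth.Agent.PtCount
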