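import Mathlib.Algebra.Polynomial.Bivariate
import Mathlib.FieldTheory.IsAlgClosed.Basic
import Mathlib.RingTheory.Jacobson.Ring
import Mathlib.RingTheory.MvPolynomial.Localization
import Mathlib.RingTheory.Localization.FractionRing

/-! Absolute irreducibility of a monic plane curve is an open condition on the coefficients. -/

noncomputable section

set_option linter.style.haveILetI false
set_option maxHeartbeats 1000000

universe u v w

open Polynomial
open scoped Polynomial.Bivariate

namespace Groth.Agent.PtCount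

variable {R : Type*} [CommRing R]

theorem coeff_coeff_swap (p : R[X][Y]) (i j : ℕ) :
    ((Bivariate.swap p).coeff i).coeff j = (p.coeff j).coeff i := by
  induction p using Polynomial.induction_on' with
  | add p q hp hq => simp [hp, hq]
  | monomial a c =>
    induction c using Polynomial.induction_on' with
    | add c d hc hd => simp only [map_add, coeff_add, hc, hd]
    | monomial b r =>
      have e : Bivariate.swap (monomial a (monomial b r)) = monomial b (monomial a r) := by
        simp only [← C_mul_X_pow_eq_monomial, map_mul, map_pow, Bivariate.swap_C_C, Bivariate.swap_X,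
          Bivariate.swap_Y]
        ring
      rw [e]
      simp only [coeff_monomial]
      split_ifs <;> simp_all [coeff_monomial]

theorem natDegree_coeff_le (p : R[X][Y]) (i : ℕ) :
    (p.coeff i).natDegree ≤ (Bivariate.swap p).natDegree := by
  refine natDegree_le_iff_coeff_eq_zero.2 fun j hj => ?_
  rw [← coeff_coeff_swap, coeff_eq_zero_of_natDegree_lt hj, coeff_zero]

theorem natDegree_swap_le {p : R[X][Y]} {c : ℕ} (h : ∀ i, (p.coeff i).natDegree ≤ c) :
    (Bivariate.swap p).natDegree ≤ c := by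
  refine natDegree_le_iff_coeff_eq_zero.2 fun j hj => Polynomial.ext fun i => ?_
  rw [coeff_coeff_swap, coeff_zero, coeff_eq_zero_of_natDegree_lt (lt_of_le_of_lt (h i) hj)]

/-- Factors of a bivariate polynomial have smaller degree in the first variable. -/
theorem natDegree_coeff_factor_le [IsDomain R] {G H : R[X][Y]} (hGH : G * H ≠ 0) {c : ℕ}
    (h : ∀ i, ((G * H).coeff i).natDegree ≤ c) (i : ℕ) :
    (G.coeff i).natDegree ≤ c ∧ (H.coeff i).natDegree ≤ c := by
  have h0 := mul_ne_zero_iff.1 hGH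
  have h1 := natDegree_swap_le h
  rw [map_mul, natDegree_mul ((map_ne_zero_iff _ Bivariate.swap.injective).2 h0.1)
    ((map_ne_zero_iff _ Bivariate.swap.injective).2 h0.2)] at h1
  exact ⟨(natDegree_coeff_le G i).trans (by omega), (natDegree_coeff_le H i).trans (by omega)⟩

/-- The monic polynomial with the given lower coefficients. -/
def mkMonic (a c : ℕ) (u : Fin a × Fin (c + 1) → R) : R[X][Y] :=
  X ^ a + ∑ i : Fin a, monomial (i : ℕ) (∑ j : Fin (c + 1), monomial (j : ℕ) (u (i, j)))

theorem mkMonic_map {S : Type*} [CommRing S] (φ : R →+* S) (a c : ℕ) (u : Fin a × Fin (c + 1) → R) :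
    (mkMonic a c u).map (mapRingHom φ) = mkMonic a c (φ ∘ u) := by
  simp [mkMonic, Polynomial.map_sum]

theorem exists_mkMonic_eq {G : R[X][Y]} {a c : ℕ} (hG : G.Monic) (ha : G.natDegree = a)
    (hc : ∀ i, (G.coeff i).natDegree ≤ c) : ∃ u, mkMonic a c u = G := by
  refine ⟨fun ij => (G.coeff ij.1).coeff ij.2, ?_⟩
  subst ha
  conv_rhs => rw [hG.as_sum]
  rw [mkMonic, Finset.sum_range]
  congr 1
  refine Finset.sum_congr rfl fun i _ => ?_
  rw [← C_mul_X_pow_eq_monomial]
  congr 2
  exact (((G.coeff i).as_sum_range' (c + 1) (Nat.lt_succ_of_le (hc i))).trans (Finset.sum_range _)).symm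

/-- The coordinates of a pair of monic factors. -/
abbrev FacVar (a b c : ℕ) : Type := Fin a × Fin (c + 1) ⊕ Fin b × Fin (c + 1)

/-- The ideal of the factorisations of the given shape. -/
def facIdeal {B : Type v} [CommRing B] (F : B[X][Y]) (a b c : ℕ) : Ideal (MvPolynomial (FacVar a b c) B) :=
  Ideal.span (Set.range fun ij : ℕ × ℕ =>
    ((mkMonic a c (fun i => MvPolynomial.X (Sum.inl i)) * mkMonic b c (fun i => MvPolynomial.X (Sum.inr i)) -
      F.map (mapRingHom MvPolynomial.C)).coeff ij.1).coeff ij.2)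

theorem facIdeal_le_ker_iff {B : Type v} [CommRing B] (F : B[X][Y]) (a b c : ℕ) {L : Type w} [CommRing L]
    (ψ : MvPolynomial (FacVar a b c) B →+* L) (φ : B →+* L) (hφ : ∀ x, ψ (MvPolynomial.C x) = φ x)
    (u : Fin a × Fin (c + 1) → L) (v : Fin b × Fin (c + 1) → L)
    (hu : ∀ i, ψ (MvPolynomial.X (Sum.inl i)) = u i) (hv : ∀ i, ψ (MvPolynomial.X (Sum.inr i)) = v i) :
    facIdeal F a b c ≤ RingHom.ker ψ ↔ mkMonic a c u * mkMonic b c v = F.map (mapRingHom φ) := by
  have h1 : ψ.comp MvPolynomial.C = φ := RingHom.ext hφ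
  have hU : ψ ∘ (fun i => MvPolynomial.X (Sum.inl i)) = u := funext hu
  have hV : ψ ∘ (fun i => MvPolynomial.X (Sum.inr i)) = v := funext hv
  rw [facIdeal, Ideal.span_le, Set.range_subset_iff, ← sub_eq_zero]
  have h2 : (mkMonic a c (fun i => MvPolynomial.X (Sum.inl i)) * mkMonic b c (fun i => MvPolynomial.X (Sum.inr i)) -
      F.map (mapRingHom MvPolynomial.C)).map (mapRingHom ψ) =
      mkMonic a c u * mkMonic b c v - F.map (mapRingHom φ) := by
    rw [Polynomial.map_sub, Polynomial.map_mul, mkMonic_map, mkMonic_map, hU, hV, Polynomial.map_map,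
      mapRingHom_comp, h1]
  rw [← h2]
  generalize (mkMonic a c (fun i => MvPolynomial.X (Sum.inl i)) * mkMonic b c (fun i => MvPolynomial.X (Sum.inr i)) -
      F.map (mapRingHom MvPolynomial.C)) = P
  constructor
  · intro h
    refine Polynomial.ext fun i => Polynomial.ext fun j => ?_
    simpa using h (i, j)
  · intro h ij
    show ψ _ = 0
    have := congrArg (fun P : L[X][Y] => (P.coeff ij.1).coeff ij.2) h
    simpa using this

/-- For one type of factorisation. -/
theorem exists_no_factorisation {B : Type v} [CommRing B] [IsDomain B] {Ω : Type w} [Field Ω] [IsAlgClosed Ω]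
    [Algebra B Ω] (hB : Function.Injective (algebraMap B Ω)) (F : B[X][Y]) (a b c : ℕ)
    (hno : ∀ u w, mkMonic a c u * mkMonic b c w ≠ F.map (mapRingHom (algebraMap B Ω))) :
    ∃ s : B, s ≠ 0 ∧ ∀ (L : Type u) [Field L] (φ : B →+* L), φ s ≠ 0 →
      ∀ u w, mkMonic a c u * mkMonic b c w ≠ F.map (mapRingHom φ) := by
  classical
  by_cases hs : ∃ s : B, s ≠ 0 ∧ MvPolynomial.C s ∈ facIdeal F a b c
  · obtain ⟨s, hs0, hsI⟩ := hs
    refine ⟨s, hs0, fun L _ φ hφ u v heq => hφ ?_⟩
    have h2 := (facIdeal_le_ker_iff F a b c (MvPolynomial.eval₂Hom φ (Sum.elim u v)) φ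
      (fun x => MvPolynomial.eval₂Hom_C φ _ x) u v (fun i => by simp) (fun i => by simp)).2 heq hsI
    exact (MvPolynomial.eval₂Hom_C φ _ s).symm.trans h2
  exfalso
  push Not at hs
  let K₀ := FractionRing B
  letI : Algebra (MvPolynomial (FacVar a b c) B) (MvPolynomial (FacVar a b c) K₀) := MvPolynomial.algebraMvPolynomial
  have hJ : (facIdeal F a b c).map (algebraMap (MvPolynomial (FacVar a b c) B) (MvPolynomial (FacVar a b c) K₀)) ≠ ⊤ := by
    rw [IsLocalization.map_algebraMap_ne_top_iff_disjoint ((nonZeroDivisors B).map (MvPolynomial.C (σ := FacVar a b c)))]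
    rw [Set.disjoint_left]
    rintro _ ⟨s, hs0, rfl⟩ hmem
    exact hs s (nonZeroDivisors.ne_zero hs0) hmem
  obtain ⟨M, hM, hIM⟩ := Ideal.exists_le_maximal _ hJ
  letI := Ideal.Quotient.field M
  haveI : Module.Finite K₀ (MvPolynomial (FacVar a b c) K₀ ⧸ M) := finite_of_finite_type_of_isJacobsonRing K₀ _
  letI : Algebra K₀ Ω := (IsFractionRing.lift hB).toAlgebra
  let e : (MvPolynomial (FacVar a b c) K₀ ⧸ M) →ₐ[K₀] Ω := IsAlgClosed.lift
  let ψ : MvPolynomial (FacVar a b c) B →+* Ω :=
    (e.toRingHom.comp (Ideal.Quotient.mk M)).comp (algebraMap (MvPolynomial (FacVar a b c) B) (MvPolynomial (FacVar a b c) K₀))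
  have hψ : facIdeal F a b c ≤ RingHom.ker ψ := fun x hx => by
    show e (Ideal.Quotient.mk M _) = 0
    rw [Ideal.Quotient.eq_zero_iff_mem.2 (hIM (Ideal.mem_map_of_mem _ hx)), map_zero]
  have hψC : ψ.comp MvPolynomial.C = algebraMap B Ω := RingHom.ext fun x => by
    show e (Ideal.Quotient.mk M (algebraMap (MvPolynomial (FacVar a b c) B) (MvPolynomial (FacVar a b c) K₀) (MvPolynomial.C x))) = _
    rw [MvPolynomial.algebraMap_def, MvPolynomial.map_C]
    exact (e.commutes _).trans (IsFractionRing.lift_algebraMap hB x)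
  exact hno _ _ ((facIdeal_le_ker_iff F a b c ψ (algebraMap B Ω) (RingHom.congr_fun hψC)
    (fun i => ψ (MvPolynomial.X (Sum.inl i))) (fun i => ψ (MvPolynomial.X (Sum.inr i)))
    (fun i => rfl) (fun i => rfl)).1 hψ)

/-- Absolute irreducibility spreads out. -/
theorem exists_irreducible_spread {B : Type v} [CommRing B] [IsDomain B] {Ω : Type w} [Field Ω] [IsAlgClosed Ω]
    [Algebra B Ω] (hB : Function.Injective (algebraMap B Ω)) (F : B[X][Y]) (hF : F.Monic)
    (hirr : Irreducible (F.map (mapRingHom (algebraMap B Ω)))) :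
    ∃ s : B, s ≠ 0 ∧ ∀ (L : Type u) [Field L] (φ : B →+* L), φ s ≠ 0 →
      Irreducible (F.map (mapRingHom φ)) := by
  classical
  let d := F.natDegree
  let c := (Finset.range (d + 1)).sup fun i => (F.coeff i).natDegree
  have hc : ∀ i, (F.coeff i).natDegree ≤ c := fun i => by
    rcases le_or_gt i d with h | h
    · exact Finset.le_sup (f := fun i => (F.coeff i).natDegree) (Finset.mem_range.2 (by omega))
    · rw [coeff_eq_zero_of_natDegree_lt h, natDegree_zero]; exact Nat.zero_le _
  have hd : 0 < d := by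
    have h1 := hirr.not_isUnit
    rw [(hF.map (mapRingHom (algebraMap B Ω))).isUnit_iff] at h1
    rw [Nat.pos_iff_ne_zero]
    exact fun h0 => h1 (by rw [hF.natDegree_eq_zero.1 h0, Polynomial.map_one])
  have key : ∀ a : Fin (d - 1), ∃ s : B, s ≠ 0 ∧ ∀ (L : Type u) [Field L] (φ : B →+* L), φ s ≠ 0 →
      ∀ u w, mkMonic ((a : ℕ) + 1) c u * mkMonic (d - ((a : ℕ) + 1)) c w ≠ F.map (mapRingHom φ) := by
    intro a
    refine exists_no_factorisation hB F _ _ c fun u w h => ?_
    have hu : (mkMonic ((a : ℕ) + 1) c u).Monic ∧ (mkMonic ((a : ℕ) + 1) c u).natDegree = (a : ℕ) + 1 :=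
      monic_mkMonic _ _ u
    have hw : (mkMonic (d - ((a : ℕ) + 1)) c w).Monic ∧ _ := monic_mkMonic _ _ w
    rcases hirr.isUnit_or_isUnit h.symm with h1 | h1
    · rw [hu.1.isUnit_iff] at h1
      have := hu.2
      rw [h1, natDegree_one] at this
      omega
    · rw [hw.1.isUnit_iff] at h1
      have := hw.2
      rw [h1, natDegree_one] at this
      have := a.2
      omega
  choose s hs0 hs using key
  refine ⟨∏ a, s a, Finset.prod_ne_zero_iff.2 fun a _ => hs0 a, fun L _ φ hφ => ?_⟩
  rw [map_prod, Finset.prod_ne_zero_iff] at hφ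
  have hm := hF.map (mapRingHom φ)
  have hmd : (F.map (mapRingHom φ)).natDegree = d := hF.natDegree_map _
  rw [hm.irreducible_iff_natDegree]
  refine ⟨fun h1 => by rw [h1, natDegree_one] at hmd; omega, fun G H hG hH hGH => ?_⟩
  by_contra hne
  push Not at hne
  have hsum : G.natDegree + H.natDegree = d := by rw [← hmd, ← hGH, hG.natDegree_mul hH]
  have hbound := natDegree_coeff_factor_le (G := G) (H := H) (mul_ne_zero hG.ne_zero hH.ne_zero) (c := c)
    fun i => by rw [hGH, coeff_map]; exact natDegree_map_le.trans (hc i)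
  obtain ⟨u, hu⟩ := exists_mkMonic_eq hG (a := G.natDegree - 1 + 1) (by omega) fun i => (hbound i).1
  obtain ⟨w, hw⟩ := exists_mkMonic_eq hH (a := d - (G.natDegree - 1 + 1)) (by omega) fun i => (hbound i).2
  exact hs ⟨G.natDegree - 1, by omega⟩ L φ (hφ _ (Finset.mem_univ _)) u w (by rw [hu, hw, hGH])
where
  monic_mkMonic {L : Type _} [Field L] (a c : ℕ) (u : Fin a × Fin (c + 1) → L) :
      (mkMonic a c u).Monic ∧ (mkMonic a c u).natDegree = a := by
    have h : (∑ i : Fin a, monomial (i : ℕ) (∑ j : Fin (c + 1), monomial (j : ℕ) (u (i, j)))).degree < (a : ℕ) := by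
      refine lt_of_le_of_lt (degree_sum_le _ _) ((Finset.sup_lt_iff (WithBot.bot_lt_coe a)).2 fun i _ => ?_)
      exact lt_of_le_of_lt (degree_monomial_le _ _) (WithBot.coe_lt_coe.2 i.2)
    refine ⟨monic_X_pow_add h, natDegree_eq_of_degree_eq_some ?_⟩
    rw [mkMonic, add_comm, degree_add_eq_right_of_degree_lt (by rwa [degree_X_pow]), degree_X_pow]

end Groth.Agent.PtCount
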