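import Groth.Agent.PtCount.Curve
import Groth.Agent.PtCount.Spread
import Mathlib.RingTheory.AlgebraicIndependent.Basic
import Mathlib.RingTheory.Localization.Away.Basic

/-! Counting points on a family of absolutely irreducible curves. -/

noncomputable section

set_option linter.style.haveILetI false
set_option linter.unusedSectionVars false

universe u

open Polynomial
open scoped Polynomial.Bivariate

namespace Groth.Agent.PtCount

theorem finite_algHom {R A 𝔽 : Type*} [CommRing R] [CommRing A] [Algebra R A] [Algebra.FiniteType R A]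
    [CommRing 𝔽] [Algebra R 𝔽] [Finite 𝔽] : Finite (A →ₐ[R] 𝔽) := by
  obtain ⟨s, hs⟩ := (Algebra.FiniteType.out : (⊤ : Subalgebra R A).FG)
  refine Finite.of_injective (fun φ (a : s) => φ (a : A)) fun φ φ' h => AlgHom.ext_of_adjoin_eq_top hs fun a ha => ?_
  exact congrFun h ⟨a, ha⟩

/-- A root of a specialised relation. -/
theorem mem_roots_of_rel {P L : Type*} [CommRing P] [CommRing L] [IsDomain L] (θ : P →+* L) (p : P[X]) (a : L)
    (hlead : θ p.leadingCoeff ≠ 0) (h : p.eval₂ θ a = 0) : a ∈ (p.map θ).roots := by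
  rw [mem_roots', IsRoot.def, eval_map]
  refine ⟨fun h0 => hlead ?_, h⟩
  have := congrArg (fun q : L[X] => q.coeff p.natDegree) h0
  simpa [coeff_map] using this

variable {R A B : Type u} [CommRing R] [CommRing A] [Algebra R A] [CommRing B] [Algebra R B]

section Fibre

variable (FB : B[X][Y]) (hB : B[X]) (aA : A →ₐ[R] Localization.Away (AdjoinRoot.of FB hB))
  {𝔽 : Type u} [Field 𝔽] [Algebra R 𝔽]

/-- The points of the specialised curve. -/
def Pts (ψ : B →ₐ[R] 𝔽) : Type u :=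
  {ab : 𝔽 × 𝔽 // (FB.map (mapRingHom ψ.toRingHom)).evalEval ab.1 ab.2 = 0 ∧
    (hB.map ψ.toRingHom).eval ab.1 ≠ 0}

variable {FB hB}

/-- Evaluation at the first coordinate. -/
def evA (ψ : B →ₐ[R] 𝔽) (ab : Pts FB hB ψ) : B[X] →ₐ[R] 𝔽 :=
  ((aeval (R := 𝔽) ab.1.1).restrictScalars R).comp (Polynomial.mapAlgHom ψ)

theorem evA_apply (ψ : B →ₐ[R] 𝔽) (ab : Pts FB hB ψ) (p : B[X]) :
    evA ψ ab p = (p.map ψ.toRingHom).eval ab.1.1 := by
  show aeval ab.1.1 (p.map ψ.toRingHom) = _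
  rw [coe_aeval_eq_eval]

theorem eval₂_evA (ψ : B →ₐ[R] 𝔽) (ab : Pts FB hB ψ) : FB.eval₂ (evA ψ ab).toRingHom ab.1.2 = 0 := by
  refine Eq.trans ?_ ab.2.1
  rw [← coe_evalEvalRingHom, evalEvalRingHom_eq]
  show _ = eval₂ _ _ _
  rw [eval₂_map]
  exact congrArg (fun θ => eval₂ θ ab.1.2 FB) (RingHom.ext fun q => evA_apply ψ ab q)

theorem isUnit_liftRoot (ψ : B →ₐ[R] 𝔽) (ab : Pts FB hB ψ) (w : Submonoid.powers (AdjoinRoot.of FB hB)) :
    IsUnit (AdjoinRoot.liftAlgHom FB (evA ψ ab) ab.1.2 (eval₂_evA ψ ab) (w : AdjoinRoot FB)) := by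
  obtain ⟨m, hm⟩ := w.2
  rw [← hm, map_pow]
  refine IsUnit.pow m ?_
  rw [isUnit_iff_ne_zero, AdjoinRoot.liftAlgHom_of, evA_apply]
  exact ab.2.2

/-- The point of the total space. -/
def ptHom (ψ : B →ₐ[R] 𝔽) (ab : Pts FB hB ψ) : Localization.Away (AdjoinRoot.of FB hB) →ₐ[R] 𝔽 :=
  IsLocalization.liftAlgHom (M := Submonoid.powers (AdjoinRoot.of FB hB))
    (f := AdjoinRoot.liftAlgHom FB (evA ψ ab) ab.1.2 (eval₂_evA ψ ab)) (isUnit_liftRoot ψ ab)

theorem ptHom_algebraMap (ψ : B →ₐ[R] 𝔽) (ab : Pts FB hB ψ) (w : AdjoinRoot FB) :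
    ptHom ψ ab (algebraMap (AdjoinRoot FB) _ w) =
      AdjoinRoot.liftAlgHom FB (evA ψ ab) ab.1.2 (eval₂_evA ψ ab) w :=
  IsLocalization.lift_eq _ w

theorem ptHom_C (ψ : B →ₐ[R] 𝔽) (ab : Pts FB hB ψ) (w : B) :
    ptHom ψ ab (algebraMap (AdjoinRoot FB) _ (AdjoinRoot.of FB (C w))) = ψ w := by
  rw [ptHom_algebraMap, AdjoinRoot.liftAlgHom_of, evA_apply, Polynomial.map_C, eval_C]
  rfl

theorem ptHom_X (ψ : B →ₐ[R] 𝔽) (ab : Pts FB hB ψ) :
    ptHom ψ ab (algebraMap (AdjoinRoot FB) _ (AdjoinRoot.of FB X)) = ab.1.1 := by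
  rw [ptHom_algebraMap, AdjoinRoot.liftAlgHom_of, evA_apply, Polynomial.map_X, eval_X]

theorem ptHom_root (ψ : B →ₐ[R] 𝔽) (ab : Pts FB hB ψ) :
    ptHom ψ ab (algebraMap (AdjoinRoot FB) _ (AdjoinRoot.root FB)) = ab.1.2 := by
  rw [ptHom_algebraMap]
  exact AdjoinRoot.liftAlgHom_root FB (evA ψ ab) ab.1.2 (eval₂_evA ψ ab)

end Fibre

variable [IsDomain B]

/-- Points of the base, times the points of a line, inject up to bounded multiplicity. -/
theorem count {n : ℕ} (tA : Fin n → A) (tB : Fin n → B) (FB : B[X][Y]) (hFB : FB.Monic) (hFd : 0 < FB.natDegree)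
    (hB : B[X]) (hlead : IsUnit hB.leadingCoeff)
    (hirr : ∀ (L : Type u) [Field L] (φ : B →+* L), Irreducible (FB.map (mapRingHom φ)))
    (aA : A →ₐ[R] Localization.Away (AdjoinRoot.of FB hB))
    (htA : ∀ i, aA (tA i) = algebraMap (AdjoinRoot FB) _ (AdjoinRoot.of FB (C (tB i))))
    (px py : A[X]) (hux : IsUnit (aA px.leadingCoeff)) (huy : IsUnit (aA py.leadingCoeff))
    (hpx : px.eval₂ aA.toRingHom (algebraMap (AdjoinRoot FB) _ (AdjoinRoot.of FB X)) = 0)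
    (hpy : py.eval₂ aA.toRingHom (algebraMap (AdjoinRoot FB) _ (AdjoinRoot.root FB)) = 0)
    (Z : Finset B) (p : B → (MvPolynomial (Fin n) R)[X])
    (hp : ∀ z ∈ Z, IsUnit (MvPolynomial.aeval tB (p z).leadingCoeff) ∧
      (p z).eval₂ (MvPolynomial.aeval (R := R) tB).toRingHom z = 0)
    (hgen : Algebra.adjoin R (Set.range tB ∪ ↑Z) = ⊤) [Algebra.FiniteType R A] :
    ∃ (c : ℝ) (Q₀ : ℕ), 0 < c ∧ ∀ (𝔽 : Type u) [Field 𝔽] [Finite 𝔽] [Algebra R 𝔽], Q₀ ≤ Nat.card 𝔽 →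
      c * (Nat.card 𝔽 : ℝ) * Nat.card (B →ₐ[R] 𝔽) ≤ Nat.card (A →ₐ[R] 𝔽) := by
  classical
  let d := FB.natDegree
  let cF := FB.support.sup fun i => (FB.coeff i).natDegree
  let Hd := hB.natDegree
  let G : ℕ := cF * d * d + 1
  let D : ℕ := (∏ z ∈ Z, (p z).natDegree) * (px.natDegree * py.natDegree) + 1
  let C₀ : ℕ := 4 * G + 2 * d * (1 + Hd) + 1
  refine ⟨1 / (2 * d * D), C₀ ^ 2, by positivity, fun 𝔽 _ _ _ hQ => ?_⟩
  haveI : Algebra.FiniteType R B := ⟨by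
    rw [← hgen]
    refine Subalgebra.fg_def.2 ⟨_, (Set.finite_range tB).union Z.finite_toSet, rfl⟩⟩
  haveI : Finite (B →ₐ[R] 𝔽) := finite_algHom
  haveI : Finite (A →ₐ[R] 𝔽) := finite_algHom
  letI := Fintype.ofFinite (B →ₐ[R] 𝔽)
  letI := Fintype.ofFinite (A →ₐ[R] 𝔽)
  letI := Fintype.ofFinite 𝔽
  haveI : ∀ ψ : B →ₐ[R] 𝔽, Finite (Pts FB hB ψ) := fun ψ => Subtype.finite
  letI : ∀ ψ : B →ₐ[R] 𝔽, Fintype (Pts FB hB ψ) := fun ψ => Fintype.ofFinite _
  let Gm : (Σ ψ : B →ₐ[R] 𝔽, Pts FB hB ψ) → (A →ₐ[R] 𝔽) := fun v => (ptHom v.1 v.2).comp aA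
  let Wφ : (A →ₐ[R] 𝔽) → MvPolynomial (Fin n) R →+* 𝔽 := fun φ =>
    φ.toRingHom.comp (MvPolynomial.aeval (R := R) tA).toRingHom
  have htψ : ∀ (v : Σ ψ : B →ₐ[R] 𝔽, Pts FB hB ψ) i, v.1 (tB i) = Gm v (tA i) := fun v i => by
    show _ = ptHom v.1 v.2 (aA (tA i))
    rw [htA, ptHom_C]
  have hψP : ∀ (v : Σ ψ : B →ₐ[R] 𝔽, Pts FB hB ψ) q, v.1 (MvPolynomial.aeval tB q) = Wφ (Gm v) q := fun v q => by
    show v.1 (MvPolynomial.aeval tB q) = Gm v (MvPolynomial.aeval tA q)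
    rw [MvPolynomial.comp_aeval_apply, MvPolynomial.comp_aeval_apply]
    simp only [htψ]
  let Box : (A →ₐ[R] 𝔽) → Finset ((Z → 𝔽) × 𝔽 × 𝔽) := fun φ =>
    (Fintype.piFinset fun z : Z => ((p z.1).map (Wφ φ)).roots.toFinset) ×ˢ
      ((px.map φ.toRingHom).roots.toFinset ×ˢ (py.map φ.toRingHom).roots.toFinset)
  let key : (Σ ψ : B →ₐ[R] 𝔽, Pts FB hB ψ) → (Z → 𝔽) × 𝔽 × 𝔽 := fun v =>
    (fun z => v.1 z.1, v.2.1.1, v.2.1.2)
  have hkey : ∀ v, key v ∈ Box (Gm v) := by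
    intro v
    simp only [Box, key, Finset.mem_product, Fintype.mem_piFinset, Multiset.mem_toFinset]
    refine ⟨fun z => ?_, ?_, ?_⟩
    · refine mem_roots_of_rel _ _ _ ?_ ?_
      · rw [← hψP]
        exact ((hp z.1 z.2).1.map v.1).ne_zero
      · have h2 := congrArg v.1.toRingHom (hp z.1 z.2).2
        rw [hom_eval₂, map_zero,
          show v.1.toRingHom.comp (MvPolynomial.aeval (R := R) tB).toRingHom = Wφ (Gm v) from RingHom.ext (hψP v)] at h2
        exact h2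
    · refine mem_roots_of_rel _ _ _ ((hux.map (ptHom v.1 v.2)).ne_zero) ?_
      have h2 := congrArg (ptHom v.1 v.2).toRingHom hpx
      rw [hom_eval₂, map_zero, show (ptHom v.1 v.2).toRingHom _ = v.2.1.1 from ptHom_X v.1 v.2] at h2
      exact h2
    · refine mem_roots_of_rel _ _ _ ((huy.map (ptHom v.1 v.2)).ne_zero) ?_
      have h2 := congrArg (ptHom v.1 v.2).toRingHom hpy
      rw [hom_eval₂, map_zero, show (ptHom v.1 v.2).toRingHom _ = v.2.1.2 from ptHom_root v.1 v.2] at h2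
      exact h2
  have hinjkey : ∀ v v', Gm v = Gm v' → key v = key v' → v = v' := by
    rintro ⟨ψ, ab⟩ ⟨ψ', ab'⟩ hG hk
    simp only [key, Prod.mk.injEq] at hk
    obtain rfl : ψ = ψ' := AlgHom.ext_of_adjoin_eq_top hgen fun w hw => by
      rcases hw with ⟨i, rfl⟩ | hw
      · rw [htψ ⟨ψ, ab⟩, htψ ⟨ψ', ab'⟩, hG]
      · exact congrFun hk.1 ⟨w, hw⟩
    obtain rfl : ab = ab' := Subtype.ext (Prod.ext hk.2.1 hk.2.2)
    rfl
  have hbox : ∀ φ, (Box φ).card ≤ D := fun φ => by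
    have hr : ∀ {S' : Type u} [CommRing S'] (q : S'[X]) (f : S' →+* 𝔽), (q.map f).roots.toFinset.card ≤ q.natDegree :=
      fun q f => (Multiset.toFinset_card_le _).trans ((card_roots' _).trans natDegree_map_le)
    rw [Finset.card_product, Finset.card_product, Fintype.card_piFinset]
    refine le_trans ?_ (Nat.le_succ _)
    rw [← Finset.prod_coe_sort Z]
    exact Nat.mul_le_mul (Finset.prod_le_prod' fun z _ => hr _ _) (Nat.mul_le_mul (hr _ _) (hr _ _))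
  have hcard : Fintype.card (Σ ψ : B →ₐ[R] 𝔽, Pts FB hB ψ) ≤ D * Fintype.card (A →ₐ[R] 𝔽) := by
    rw [← Finset.card_univ, ← Finset.card_univ]
    refine (Finset.card_le_mul_card_image (f := Gm) Finset.univ D fun φ _ => ?_).trans
      (Nat.mul_le_mul_left _ (Finset.card_le_univ _))
    refine le_trans (Finset.card_le_card_of_injOn key (fun v hv => ?_) fun v hv v' hv' e => ?_) (hbox φ)
    · exact (Finset.mem_filter.1 hv).2 ▸ hkey v
    · exact hinjkey v v' ((Finset.mem_filter.1 hv).2.trans (Finset.mem_filter.1 hv').2.symm) e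
  have hlow : ∀ ψ : B →ₐ[R] 𝔽, (Nat.card 𝔽 : ℝ) ≤ 2 * d * Fintype.card (Pts FB hB ψ) := by
    intro ψ
    have hFψd : (FB.map (mapRingHom ψ.toRingHom)).natDegree = d := hFB.natDegree_map _
    have hFψc : ∀ i, ((FB.map (mapRingHom ψ.toRingHom)).coeff i).natDegree ≤ cF := fun i => by
      rw [coeff_map]
      refine natDegree_map_le.trans ?_
      by_cases h0 : FB.coeff i = 0
      · simp [h0]
      · exact Finset.le_sup (f := fun i => (FB.coeff i).natDegree) (mem_support_iff.2 h0)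
    have hirr' : Irreducible ((FB.map (mapRingHom ψ.toRingHom)).map (mapRingHom (algebraMap 𝔽 (AlgebraicClosure 𝔽)))) := by
      rw [Polynomial.map_map, mapRingHom_comp]
      exact hirr (AlgebraicClosure 𝔽) _
    have hh0 : hB.map ψ.toRingHom ≠ 0 := fun e => by
      have h1 : ψ hB.leadingCoeff = 0 := by
        have := congrArg (fun q : 𝔽[X] => q.coeff hB.natDegree) e
        simpa [coeff_map] using this
      exact (hlead.map ψ).ne_zero h1
    have hpt := card_points_lower (FB.map (mapRingHom ψ.toRingHom)) (hFB.map _) hFψc hirr' (hB.map ψ.toRingHom) hh0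
    rw [hFψd, show Nat.card {ab : 𝔽 × 𝔽 // (FB.map (mapRingHom ψ.toRingHom)).evalEval ab.1 ab.2 = 0 ∧
        (hB.map ψ.toRingHom).eval ab.1 ≠ 0} = Fintype.card (Pts FB hB ψ) from
      Nat.card_eq_fintype_card (α := Pts FB hB ψ)] at hpt
    have hH : ((hB.map ψ.toRingHom).natDegree : ℝ) ≤ Hd := by exact_mod_cast natDegree_map_le
    set Q := (Nat.card 𝔽 : ℝ)
    have hsq : (C₀ : ℝ) ≤ Real.sqrt Q := by
      rw [Real.le_sqrt (Nat.cast_nonneg _) (Nat.cast_nonneg _)]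
      exact_mod_cast hQ
    have hQs : Real.sqrt Q * Real.sqrt Q = Q := Real.mul_self_sqrt (Nat.cast_nonneg _)
    have h1 : (1 : ℝ) ≤ Real.sqrt Q := le_trans (by exact_mod_cast (by omega : 1 ≤ C₀)) hsq
    have h2 : (4 * (G : ℝ) + 2 * d * (1 + Hd) + 1) * Real.sqrt Q ≤ Q := by
      have := mul_le_mul_of_nonneg_right hsq (Real.sqrt_nonneg Q)
      rw [hQs] at this
      simpa [C₀] using this
    have h3 : (2 * (d : ℝ) * (1 + Hd)) * 1 ≤ 2 * d * (1 + Hd) * Real.sqrt Q :=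
      mul_le_mul_of_nonneg_left h1 (by positivity)
    have h4 : (d : ℝ) * (hB.map ψ.toRingHom).natDegree ≤ d * Hd := mul_le_mul_of_nonneg_left hH (Nat.cast_nonneg _)
    nlinarith
  have hsum : (Fintype.card (B →ₐ[R] 𝔽) : ℝ) * Nat.card 𝔽 ≤
      2 * d * Fintype.card (Σ ψ : B →ₐ[R] 𝔽, Pts FB hB ψ) := by
    rw [Fintype.card_sigma, Nat.cast_sum, Finset.mul_sum]
    have h := Finset.card_nsmul_le_sum (Finset.univ : Finset (B →ₐ[R] 𝔽))
      (fun ψ => 2 * (d : ℝ) * (Fintype.card (Pts FB hB ψ) : ℝ)) (Nat.card 𝔽 : ℝ) fun ψ _ => hlow ψ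
    rwa [nsmul_eq_mul, Finset.card_univ] at h
  have hc : (Fintype.card (Σ ψ : B →ₐ[R] 𝔽, Pts FB hB ψ) : ℝ) ≤ D * Fintype.card (A →ₐ[R] 𝔽) := by
    exact_mod_cast hcard
  rw [Nat.card_eq_fintype_card (α := B →ₐ[R] 𝔽), Nat.card_eq_fintype_card (α := A →ₐ[R] 𝔽)]
  have hdD : (0 : ℝ) < 2 * d * D := by positivity
  rw [one_div, mul_assoc, inv_mul_le_iff₀ hdD]
  nlinarith [mul_le_mul_of_nonneg_left hc (by positivity : (0 : ℝ) ≤ 2 * (d : ℝ))]

end Groth.Agent.PtCount
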