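import Groth.Agent.PtCount.StepRing
import Mathlib.FieldTheory.AlgebraicClosure
import Mathlib.FieldTheory.SeparablyGenerated
import Mathlib.FieldTheory.Perfect
import Mathlib.FieldTheory.PrimitiveElement
import Mathlib.RingTheory.AlgebraicIndependent.TranscendenceBasis

/-! The induction step: a variety of dimension `n + 1` contains, over every point of a variety of
dimension `n`, a positive proportion of the points of a line. -/

noncomputable section

set_option linter.style.haveILetI false
set_option linter.unusedSectionVars false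

universe u

open Polynomial
open scoped Polynomial.Bivariate

namespace Groth.Agent.PtCount

/-- Splitting off the first variable. -/
theorem aeval_eq_eval₂_finSucc {R A : Type*} [CommRing R] [CommRing A] [Algebra R A] {n : ℕ} (t : Fin (n + 1) → A)
    (q : MvPolynomial (Fin (n + 1)) R) :
    MvPolynomial.aeval t q =
      (MvPolynomial.finSuccEquiv R n q).eval₂ (MvPolynomial.aeval (R := R) fun i => t i.succ).toRingHom (t 0) := by
  induction q using MvPolynomial.induction_on with
  | C r =>
    simp [MvPolynomial.finSuccEquiv_apply]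
  | add p q hp hq => rw [map_add, map_add, eval₂_add, hp, hq]
  | mul_X p i hp =>
    rw [map_mul, map_mul, eval₂_mul, hp, MvPolynomial.aeval_X]
    congr 1
    refine Fin.cases ?_ (fun j => ?_) i
    · rw [MvPolynomial.finSuccEquiv_X_zero, eval₂_X]
    · rw [MvPolynomial.finSuccEquiv_X_succ, eval₂_C]
      simp

/-- An algebraically closed field algebraic over a given independent family. -/
theorem exists_base {R Ω : Type u} [CommRing R] [Field Ω] [IsAlgClosed Ω] [Algebra R Ω] {n : ℕ} (u : Fin n → Ω)
    (hu : AlgebraicIndependent R u) :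
    ∃ (L : Type u) (_ : Field L) (_ : IsAlgClosed L) (_ : Algebra R L) (j : L →ₐ[R] Ω) (b : Fin n → L),
      AlgebraicIndependent R b ∧ (∀ z, RelAlg R b z) ∧ (∀ i, j (b i) = u i) ∧
        ∀ w : Ω, RelAlg R u w → ∃ z, j z = w := by
  let P := MvPolynomial (Fin n) R
  let θ : P →ₐ[R] Ω := MvPolynomial.aeval u
  have hθ : Function.Injective θ := hu
  letI : Algebra P Ω := θ.toRingHom.toAlgebra
  haveI : IsDomain P := Function.Injective.isDomain θ.toRingHom hθ
  let E := FractionRing P
  letI : Algebra E Ω := (IsFractionRing.lift (K := E) hθ).toAlgebra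
  haveI : IsScalarTower P E Ω := IsScalarTower.of_algebraMap_eq fun p =>
    (IsFractionRing.lift_algebraMap (K := E) hθ p).symm
  let Lb := algebraicClosure E Ω
  haveI : IsAlgClosed Lb := (IsAlgClosed.algebraicClosure_eq_bot_iff Lb Ω).1 (algebraicClosure.algebraicClosure_eq_bot E Ω)
  have hmemθ : ∀ q : P, θ q ∈ Lb := fun q =>
    mem_algebraicClosure_iff.2 ((IsFractionRing.isAlgebraic_iff P E Ω).1 (isAlgebraic_algebraMap q))
  letI : Algebra R Lb := ((algebraMap R Ω).codRestrict Lb fun r => by
    rw [← θ.commutes r]; exact hmemθ _).toAlgebra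
  let j : Lb →ₐ[R] Ω := { Lb.subtype with commutes' := fun r => rfl }
  let b : Fin n → Lb := fun i => ⟨u i, by rw [← MvPolynomial.aeval_X (R := R) u i]; exact hmemθ _⟩
  have hbv : ∀ q : P, j (MvPolynomial.aeval b q) = θ q := fun q => by
    rw [MvPolynomial.comp_aeval_apply]
    rfl
  refine ⟨Lb, inferInstance, inferInstance, inferInstance, j, b, fun q q' e => hθ (by
    rw [← hbv, ← hbv, e]), fun z => ?_, fun i => rfl, fun w hw => ?_⟩
  · obtain ⟨p, hp, hp'⟩ := (IsFractionRing.isAlgebraic_iff P E Ω).2 (mem_algebraicClosure_iff.1 z.2)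
    refine ⟨p, hp, Subtype.ext ?_⟩
    refine (hom_eval₂ p (MvPolynomial.aeval (R := R) b).toRingHom j.toRingHom z).trans ?_
    rw [show j.toRingHom.comp (MvPolynomial.aeval (R := R) b).toRingHom = θ.toRingHom from RingHom.ext hbv]
    exact hp'
  · obtain ⟨p, hp, hp'⟩ := hw
    exact ⟨⟨w, mem_algebraicClosure_iff.2 ((IsFractionRing.isAlgebraic_iff P E Ω).1 ⟨p, hp, hp'⟩)⟩, rfl⟩

/-- A function field in one variable over an algebraically closed field is generated by a separating
element and an element integral over the polynomials in it. -/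
theorem exists_plane {L M : Type u} [Field L] [IsAlgClosed L] [Field M] [Algebra L M] [Algebra.EssFiniteType L M]
    (τ : M) (hτ : Transcendental L τ)
    (halg : Algebra.IsAlgebraic (IntermediateField.adjoin L ({τ} : Set M)) M) :
    ∃ x y : M, Transcendental L x ∧ (aeval (R := L) x).toRingHom.IsIntegralElem y ∧
      ∀ z : M, ∃ (N : L[X][Y]) (g : L[X]), g ≠ 0 ∧ z * aeval x g = N.eval₂ (aeval x).toRingHom y := by
  obtain ⟨s, hs, hsep⟩ := exists_isTranscendenceBasis_and_isSeparable_of_perfectField L M
  have hτb : IsTranscendenceBasis L (fun _ : Fin 1 => τ) := by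
    refine (AlgebraicIndependent.isTranscendenceBasis_iff_isAlgebraic
      (algebraicIndependent_unique_type_iff.mpr hτ)).mpr ?_
    rw [← IntermediateField.isAlgebraic_adjoin_iff_top, Set.range_const]
    exact halg
  have hcard := hs.lift_cardinalMk_eq hτb
  simp at hcard
  obtain ⟨x, rfl⟩ := Finset.card_eq_one.mp hcard
  rw [Finset.coe_singleton] at hsep
  have hx : Transcendental L x := hs.1.transcendental ⟨x, by simp⟩
  haveI := hsep
  haveI : FiniteDimensional (IntermediateField.adjoin L ({x} : Set M)) M := by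
    haveI : Algebra.EssFiniteType (IntermediateField.adjoin L ({x} : Set M)) M :=
      Algebra.EssFiniteType.of_comp L _ M
    haveI : Algebra.IsAlgebraic (IntermediateField.adjoin L ({x} : Set M)) M := Algebra.IsSeparable.isAlgebraic _ _
    obtain ⟨S, hS⟩ := IntermediateField.fg_top (IntermediateField.adjoin L ({x} : Set M)) M
    have : FiniteDimensional (IntermediateField.adjoin L ({x} : Set M))
        (IntermediateField.adjoin (IntermediateField.adjoin L ({x} : Set M)) (S : Set M)) :=
      IntermediateField.finiteDimensional_adjoin fun z _ => Algebra.IsIntegral.isIntegral z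
    rw [hS] at this
    exact Module.Finite.equiv IntermediateField.topEquiv.toLinearEquiv
  obtain ⟨y₀, hy₀⟩ := Field.exists_primitive_element (IntermediateField.adjoin L ({x} : Set M)) M
  letI : Algebra L[X] M := (aeval (R := L) x).toRingHom.toAlgebra
  have hLX : Function.Injective (algebraMap L[X] M) := transcendental_iff_injective.1 hx
  -- fractions in `x`
  have hfrac : ∀ w ∈ IntermediateField.adjoin L ({x} : Set M), ∃ p q : L[X], q ≠ 0 ∧
      w * algebraMap L[X] M q = algebraMap L[X] M p := by
    intro w hw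
    obtain ⟨p, q, rfl⟩ := (IntermediateField.mem_adjoin_simple_iff L w).1 hw
    rcases eq_or_ne q 0 with rfl | hq0
    · exact ⟨0, 1, one_ne_zero, by simp⟩
    · refine ⟨p, q, hq0, ?_⟩
      have hne : aeval x q ≠ 0 := fun h => hq0 (hLX (h.trans (map_zero _).symm))
      exact div_mul_cancel₀ _ hne
  haveI : Module.IsTorsionFree L[X] M := Module.isTorsionFree_iff_algebraMap_injective.2 hLX
  have hy₀alg : IsAlgebraic L[X] y₀ := by
    obtain ⟨p, hp0, hp⟩ := Algebra.IsAlgebraic.isAlgebraic (R := IntermediateField.adjoin L ({x} : Set M)) y₀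
    letI : Algebra (RatFunc L) M := (IsFractionRing.lift (K := RatFunc L) hLX).toAlgebra
    haveI : IsScalarTower L[X] (RatFunc L) M := IsScalarTower.of_algebraMap_eq fun q =>
      (IsFractionRing.lift_algebraMap (K := RatFunc L) hLX q).symm
    refine (IsFractionRing.isAlgebraic_iff L[X] (RatFunc L) M).2 ?_
    have hinj : Function.Injective (algebraMap (RatFunc L) M) := RingHom.injective _
    have hex : ∀ w : IntermediateField.adjoin L ({x} : Set M), ∃ r, algebraMap (RatFunc L) M r = (w : M) := fun w => by
      obtain ⟨p, q, hq, hpq⟩ := hfrac w w.2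
      refine ⟨algebraMap L[X] (RatFunc L) p / algebraMap L[X] (RatFunc L) q, ?_⟩
      rw [map_div₀, ← IsScalarTower.algebraMap_apply, ← IsScalarTower.algebraMap_apply, ← hpq,
        mul_div_cancel_right₀]
      exact (map_ne_zero_iff _ hLX).2 hq
    choose f hf using hex
    let fh : IntermediateField.adjoin L ({x} : Set M) →+* RatFunc L :=
      { toFun := f
        map_one' := hinj ((hf 1).trans (map_one _).symm)
        map_mul' := fun a b => hinj ((hf _).trans ((congrArg₂ (· * ·) (hf a).symm (hf b).symm).trans (map_mul _ _ _).symm))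
        map_zero' := hinj ((hf 0).trans (map_zero _).symm)
        map_add' := fun a b => hinj ((hf _).trans ((congrArg₂ (· + ·) (hf a).symm (hf b).symm).trans (map_add _ _ _).symm)) }
    refine ⟨p.map fh, fun h => hp0 (Polynomial.map_injective _ fh.injective (h.trans (Polynomial.map_zero _).symm)), ?_⟩
    rw [aeval_def, eval₂_map]
    have : (algebraMap (RatFunc L) M).comp fh = algebraMap (IntermediateField.adjoin L ({x} : Set M)) M :=
      RingHom.ext hf
    rw [this]
    exact hp
  obtain ⟨g₀, hg₀, hy⟩ := hy₀alg.exists_integral_multiple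
  refine ⟨x, g₀ • y₀, hx, hy, fun z => ?_⟩
  let T : Subalgebra L[X] M := Algebra.adjoin L[X] {g₀ • y₀}
  suffices ∃ g : L[X], g ≠ 0 ∧ z * algebraMap L[X] M g ∈ T by
    obtain ⟨g, hg, hmem⟩ := this
    have hmem' : z * algebraMap L[X] M g ∈ Algebra.adjoin L[X] {g₀ • y₀} := hmem
    rw [Algebra.adjoin_singleton_eq_range_aeval] at hmem'
    obtain ⟨N, hN⟩ := hmem'
    exact ⟨N, g, hg, hN.symm⟩
  have hz : z ∈ IntermediateField.adjoin (IntermediateField.adjoin L ({x} : Set M)) ({y₀} : Set M) := hy₀ ▸ trivial
  rw [← IntermediateField.mem_toSubalgebra, IntermediateField.adjoin_simple_toSubalgebra_of_isAlgebraic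
    (Algebra.IsAlgebraic.isAlgebraic y₀)] at hz
  induction hz using Algebra.adjoin_induction with
  | mem w hw =>
    rw [Set.mem_singleton_iff.1 hw]
    refine ⟨g₀, hg₀, ?_⟩
    rw [mul_comm, ← Algebra.smul_def]
    exact Algebra.subset_adjoin rfl
  | algebraMap r =>
    obtain ⟨p, q, hq, hpq⟩ := hfrac _ r.2
    exact ⟨q, hq, hpq.symm ▸ T.algebraMap_mem p⟩
  | add a b _ _ ha hb =>
    obtain ⟨g, hg, hga⟩ := ha
    obtain ⟨g', hg', hgb⟩ := hb
    refine ⟨g * g', mul_ne_zero hg hg', ?_⟩
    rw [map_mul, show (a + b) * (algebraMap L[X] M g * algebraMap L[X] M g') =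
      (a * algebraMap L[X] M g) * algebraMap L[X] M g' + (b * algebraMap L[X] M g') * algebraMap L[X] M g by ring]
    exact add_mem (mul_mem hga (T.algebraMap_mem _)) (mul_mem hgb (T.algebraMap_mem _))
  | mul a b _ _ ha hb =>
    obtain ⟨g, hg, hga⟩ := ha
    obtain ⟨g', hg', hgb⟩ := hb
    refine ⟨g * g', mul_ne_zero hg hg', ?_⟩
    rw [map_mul, show (a * b) * (algebraMap L[X] M g * algebraMap L[X] M g') =
      (a * algebraMap L[X] M g) * (b * algebraMap L[X] M g') by ring]
    exact mul_mem hga hgb

theorem step {R A : Type u} [CommRing R] [CommRing A] [IsDomain A] [Algebra R A]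
    [Algebra.FiniteType R A] {n : ℕ} (t : Fin (n + 1) → A) (ht : AlgebraicIndependent R t)
    (halg : ∀ a, RelAlg R t a) :
    ∃ (B : Type u) (_ : CommRing B) (_ : IsDomain B) (_ : Algebra R B) (tB : Fin n → B),
      Algebra.FiniteType R B ∧ AlgebraicIndependent R tB ∧ (∀ b, RelAlg R tB b) ∧
      ∃ (c : ℝ) (Q₀ : ℕ), 0 < c ∧ ∀ (𝔽 : Type u) [Field 𝔽] [Finite 𝔽] [Algebra R 𝔽], Q₀ ≤ Nat.card 𝔽 →
        c * (Nat.card 𝔽 : ℝ) * Nat.card (B →ₐ[R] 𝔽) ≤ Nat.card (A →ₐ[R] 𝔽) := by
  classical
  let Ω := AlgebraicClosure (FractionRing A)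
  let ι : A →ₐ[R] Ω := IsScalarTower.toAlgHom R A Ω
  have hι : Function.Injective ι := by
    show Function.Injective (algebraMap A Ω)
    rw [IsScalarTower.algebraMap_eq A (FractionRing A) Ω]
    exact (algebraMap (FractionRing A) Ω).injective.comp (IsFractionRing.injective A (FractionRing A))
  obtain ⟨L, _, _, _, j, b, hb, hrel, hjb, hLsurj⟩ :=
    exists_base (fun i => ι (t i.succ)) ((ht.map' (f := ι) hι).comp Fin.succ (Fin.succ_injective n))
  letI : Algebra L Ω := j.toRingHom.toAlgebra
  haveI : IsScalarTower R L Ω := IsScalarTower.of_algebraMap_eq fun r => (j.commutes r).symm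
  have hjP : ∀ q, j (MvPolynomial.aeval b q) = ι (MvPolynomial.aeval (fun i => t i.succ) q) := fun q => by
    rw [MvPolynomial.comp_aeval_apply, MvPolynomial.comp_aeval_apply]
    simp only [hjb]
  -- the last parameter is transcendental
  have he := aeval_eq_eval₂_finSucc (R := R) t
  have hτ : Transcendental L (ι (t 0)) := fun halgτ => by
    letI : Algebra (MvPolynomial (Fin n) R) L := (MvPolynomial.aeval (R := R) b).toRingHom.toAlgebra
    letI : Algebra (MvPolynomial (Fin n) R) Ω :=
      (ι.comp (MvPolynomial.aeval (R := R) fun i => t i.succ)).toRingHom.toAlgebra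
    haveI : IsScalarTower (MvPolynomial (Fin n) R) L Ω := IsScalarTower.of_algebraMap_eq fun q => (hjP q).symm
    haveI : IsDomain (MvPolynomial (Fin n) R) := Function.Injective.isDomain (MvPolynomial.aeval b).toRingHom hb
    haveI : Algebra.IsAlgebraic (MvPolynomial (Fin n) R) L := ⟨fun z => hrel z⟩
    obtain ⟨q, hq0, hq⟩ := halgτ.restrictScalars (MvPolynomial (Fin n) R)
    refine hq0 ((MvPolynomial.finSuccEquiv R n).symm.injective ?_)
    rw [map_zero]
    refine ht ((?_ : _ = _).trans (map_zero _).symm)
    rw [he, AlgEquiv.apply_symm_apply]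
    refine hι ?_
    rw [map_zero]
    exact (hom_eval₂ q _ ι.toRingHom (t 0)).trans hq
  -- the auxiliary field
  obtain ⟨s₀, hs₀⟩ := (Algebra.FiniteType.out : (⊤ : Subalgebra R A).FG)
  let M := IntermediateField.adjoin L (ι '' (s₀ : Set A))
  have hAM : ∀ a : A, ι a ∈ M := fun a => by
    have ha : a ∈ Algebra.adjoin R (s₀ : Set A) := hs₀ ▸ trivial
    induction ha using Algebra.adjoin_induction with
    | mem x hx => exact IntermediateField.subset_adjoin _ _ ⟨x, hx, rfl⟩
    | algebraMap r =>
      rw [AlgHom.commutes, IsScalarTower.algebraMap_apply R L Ω]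
      exact M.algebraMap_mem _
    | add x y _ _ hx hy => rw [map_add]; exact add_mem hx hy
    | mul x y _ _ hx hy => rw [map_mul]; exact mul_mem hx hy
  let ιM : A →ₐ[R] M :=
    { toFun := fun a => ⟨ι a, hAM a⟩
      map_one' := Subtype.ext (map_one ι)
      map_mul' := fun a a' => Subtype.ext (map_mul ι a a')
      map_zero' := Subtype.ext (map_zero ι)
      map_add' := fun a a' => Subtype.ext (map_add ι a a')
      commutes' := fun r => Subtype.ext (ι.commutes r) }
  haveI : Algebra.EssFiniteType L M := IntermediateField.essFiniteType_iff.mpr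
    ⟨s₀.image ι, by rw [Finset.coe_image]⟩
  have hιM : Function.Injective ιM := fun a a' e => hι (congrArg Subtype.val e)
  let τM : M := ιM (t 0)
  have hτM : Transcendental L τM := fun h => hτ (h.algHom M.val)
  have hbM : ∀ i : Fin n, ιM (t i.succ) = algebraMap L M (b i) := fun i => Subtype.ext (hjb i).symm
  -- algebraicity over the parameters
  let Kτ := IntermediateField.adjoin L ({τM} : Set M)
  have hgen : ∀ a : A, IsAlgebraic Kτ (ιM a) := fun a => by
    obtain ⟨p, hp0, hp⟩ := halg a
    have hmem : ∀ q : MvPolynomial (Fin (n + 1)) R, ιM (MvPolynomial.aeval t q) ∈ Kτ := fun q => by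
      induction q using MvPolynomial.induction_on with
      | C r =>
        rw [MvPolynomial.aeval_C, AlgHom.commutes, IsScalarTower.algebraMap_apply R L M]
        exact Kτ.algebraMap_mem _
      | add q q' hq hq' => rw [map_add, map_add]; exact add_mem hq hq'
      | mul_X q i hq =>
        rw [map_mul, map_mul, MvPolynomial.aeval_X]
        refine mul_mem hq ?_
        refine Fin.cases ?_ (fun j => ?_) i
        · exact IntermediateField.mem_adjoin_simple_self L τM
        · rw [hbM]; exact Kτ.algebraMap_mem _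
    let ρ : MvPolynomial (Fin (n + 1)) R →+* Kτ :=
      (ιM.toRingHom.comp (MvPolynomial.aeval (R := R) t).toRingHom).codRestrict Kτ hmem
    refine ⟨p.map ρ, fun h => hp0 (Polynomial.map_injective ρ (fun q q' h' => ?_)
      (h.trans (Polynomial.map_zero _).symm)), ?_⟩
    · exact ht (hιM (congrArg Subtype.val h'))
    · rw [aeval_def, eval₂_map]
      have : (algebraMap Kτ M).comp ρ = ιM.toRingHom.comp (MvPolynomial.aeval (R := R) t).toRingHom := rfl
      rw [this]
      exact (hom_eval₂ p _ ιM.toRingHom a).symm.trans ((congrArg ιM hp).trans (map_zero ιM))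
  have halgM : Algebra.IsAlgebraic Kτ M := ⟨fun z => by
    have hz : (z : Ω) ∈ M := z.2
    suffices ∀ (w : Ω) (hw : w ∈ M), IsAlgebraic Kτ (⟨w, hw⟩ : M) from this z hz
    intro w hw
    refine mem_algebraicClosure_iff.1 (?_ : (⟨w, hw⟩ : M) ∈ algebraicClosure Kτ M)
    induction hw using IntermediateField.adjoin_induction with
    | mem w hw =>
      obtain ⟨a, -, rfl⟩ := hw
      exact mem_algebraicClosure_iff.2 (hgen a)
    | algebraMap w =>
      exact mem_algebraicClosure_iff.2 (isAlgebraic_algebraMap
        (⟨algebraMap L M w, Kτ.algebraMap_mem w⟩ : Kτ))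
    | add a b _ _ ha hb => exact add_mem ha hb
    | inv a _ ha => exact inv_mem ha
    | mul a b _ _ ha hb => exact mul_mem ha hb⟩
  obtain ⟨x, y, hx, hy, hquot⟩ := exists_plane τM hτM halgM
  -- relations over `A`
  have hrelA : ∀ z : M, ∃ p : A[X], p ≠ 0 ∧ p.eval₂ ιM.toRingHom z = 0 := by
    intro z
    letI : Algebra A M := ιM.toRingHom.toAlgebra
    let K₀ := FractionRing A
    letI : Algebra K₀ M := (IsFractionRing.lift (K := K₀) hιM).toAlgebra
    haveI : IsScalarTower A K₀ M := IsScalarTower.of_algebraMap_eq fun p =>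
      (IsFractionRing.lift_algebraMap (K := K₀) hιM p).symm
    refine (IsFractionRing.isAlgebraic_iff A K₀ M).2 ?_
    suffices ∀ (w : Ω) (hw : w ∈ M), IsAlgebraic K₀ (⟨w, hw⟩ : M) from this z z.2
    intro w hw
    refine mem_algebraicClosure_iff.1 (?_ : (⟨w, hw⟩ : M) ∈ algebraicClosure K₀ M)
    induction hw using IntermediateField.adjoin_induction with
    | mem w hw =>
      obtain ⟨a, -, rfl⟩ := hw
      exact mem_algebraicClosure_iff.2 ((IsFractionRing.isAlgebraic_iff A K₀ M).1 (isAlgebraic_algebraMap a))
    | algebraMap w =>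
      obtain ⟨p, hp0, hp⟩ := hrel w
      refine mem_algebraicClosure_iff.2 ((IsFractionRing.isAlgebraic_iff A K₀ M).1
        ⟨p.map (MvPolynomial.aeval (R := R) fun i => t i.succ).toRingHom, fun h => hp0 ?_, ?_⟩)
      · refine Polynomial.map_injective _ (fun q q' hqq => ?_) (h.trans (Polynomial.map_zero _).symm)
        exact hb (j.toRingHom.injective ((hjP q).trans ((congrArg ι hqq).trans (hjP q').symm)))
      · rw [aeval_def, eval₂_map]
        refine Subtype.ext ?_
        refine (hom_eval₂ p _ M.val.toRingHom (algebraMap L M w)).trans ?_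
        refine Eq.trans ?_ ((congrArg j hp).trans (map_zero j))
        refine Eq.trans ?_ (hom_eval₂ p _ j.toRingHom w).symm
        congr 1
        exact RingHom.ext fun q => (hjP q).symm
    | add a b _ _ ha hb => exact add_mem ha hb
    | inv a _ ha => exact inv_mem ha
    | mul a b _ _ ha hb => exact mul_mem ha hb
  exact step_ring (fun i => t i.succ) b hb hrel ιM hιM hbM x y hx hy hquot (hrelA x) (hrelA y)

end Groth.Agent.PtCount
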