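import Groth.Agent.PtCount.StepCount
import Mathlib.FieldTheory.Minpoly.IsIntegrallyClosed
import Mathlib.RingTheory.AdjoinRoot

/-! The curve over a finitely generated coefficient ring. -/

noncomputable section

set_option linter.style.haveILetI false
set_option linter.unusedSectionVars false

universe u

open Polynomial
open scoped Polynomial.Bivariate

namespace Groth.Agent.PtCount

/-- `a` is algebraic over the functions `t`. -/
def RelAlg (R : Type*) [CommRing R] {n : ℕ} {A : Type*} [CommRing A] [Algebra R A] (t : Fin n → A) (a : A) : Prop :=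
  ∃ p : (MvPolynomial (Fin n) R)[X], p ≠ 0 ∧ p.eval₂ (MvPolynomial.aeval (R := R) t).toRingHom a = 0

section Total

variable {R B M : Type u} [CommRing R] [CommRing B] [IsDomain B] [Algebra R B] [Field M] [Algebra R M]
  (FB : B[X][Y]) (hB : B[X]) (V : B[X] →ₐ[R] M) (y : M) (hy : FB.eval₂ V.toRingHom y = 0)
  (hh : V hB ≠ 0)

include hh in
theorem isUnit_totalHom (w : Submonoid.powers (AdjoinRoot.of FB hB)) :
    IsUnit (AdjoinRoot.liftAlgHom FB V y hy (w : AdjoinRoot FB)) := by
  obtain ⟨m, hm⟩ := w.2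
  rw [← hm, map_pow]
  refine IsUnit.pow m ?_
  rw [isUnit_iff_ne_zero, AdjoinRoot.liftAlgHom_of]
  exact hh

/-- The total space inside the big field. -/
def totalHom : Localization.Away (AdjoinRoot.of FB hB) →ₐ[R] M :=
  IsLocalization.liftAlgHom (M := Submonoid.powers (AdjoinRoot.of FB hB))
    (f := AdjoinRoot.liftAlgHom FB V y hy) (isUnit_totalHom FB hB V y hy hh)

theorem totalHom_algebraMap (w : AdjoinRoot FB) :
    totalHom FB hB V y hy hh (algebraMap (AdjoinRoot FB) _ w) = AdjoinRoot.liftAlgHom FB V y hy w :=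
  IsLocalization.lift_eq _ w

theorem injective_totalHom (hFB : FB.Monic)
    (hmin : ∀ r : B[X][Y], r.degree < FB.degree → r.eval₂ V.toRingHom y = 0 → r = 0) :
    Function.Injective (totalHom FB hB V y hy hh) := by
  have hinj : Function.Injective (AdjoinRoot.liftAlgHom FB V y hy) := by
    refine (injective_iff_map_eq_zero _).2 fun w hw => ?_
    obtain ⟨p, rfl⟩ := AdjoinRoot.mk_surjective w
    rw [← AdjoinRoot.mk_leftInverse hFB (AdjoinRoot.mk FB p), AdjoinRoot.modByMonicHom_mk hFB] at hw ⊢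
    rw [AdjoinRoot.liftAlgHom_mk] at hw
    rw [hmin _ (degree_modByMonic_lt _ hFB) hw, map_zero]
  show Function.Injective (IsLocalization.lift (isUnit_totalHom FB hB V y hy hh) :
    Localization.Away (AdjoinRoot.of FB hB) → M)
  refine IsLocalization.lift_injective_iff _ |>.2 fun a a' => ⟨fun e => ?_, fun e => ?_⟩
  · have e1 := congrArg (totalHom FB hB V y hy hh) e
    rwa [totalHom_algebraMap, totalHom_algebraMap] at e1
  · exact congrArg _ (hinj e)

end Total

variable {R A : Type u} [CommRing R] [CommRing A] [IsDomain A] [Algebra R A]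

theorem step_ring [Algebra.FiniteType R A] {n : ℕ} (tA : Fin n → A) {L M : Type u} [Field L] [IsAlgClosed L]
    [Algebra R L] (b : Fin n → L) (hb : AlgebraicIndependent R b) (hrel : ∀ z : L, RelAlg R b z)
    [Field M] [Algebra L M] [Algebra R M] [IsScalarTower R L M] (ιM : A →ₐ[R] M) (hι : Function.Injective ιM)
    (hbA : ∀ i, ιM (tA i) = algebraMap L M (b i)) (x y : M) (hx : Transcendental L x)
    (hy : (aeval (R := L) x).toRingHom.IsIntegralElem y)
    (hquot : ∀ z : M, ∃ (N : L[X][Y]) (g : L[X]), g ≠ 0 ∧ z * aeval x g = N.eval₂ (aeval x).toRingHom y)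
    (hxA : ∃ p : A[X], p ≠ 0 ∧ p.eval₂ ιM.toRingHom x = 0)
    (hyA : ∃ p : A[X], p ≠ 0 ∧ p.eval₂ ιM.toRingHom y = 0) :
    ∃ (B : Type u) (_ : CommRing B) (_ : IsDomain B) (_ : Algebra R B) (tB : Fin n → B),
      Algebra.FiniteType R B ∧ AlgebraicIndependent R tB ∧ (∀ z, RelAlg R tB z) ∧
      ∃ (c : ℝ) (Q₀ : ℕ), 0 < c ∧ ∀ (𝔽 : Type u) [Field 𝔽] [Finite 𝔽] [Algebra R 𝔽], Q₀ ≤ Nat.card 𝔽 →
        c * (Nat.card 𝔽 : ℝ) * Nat.card (B →ₐ[R] 𝔽) ≤ Nat.card (A →ₐ[R] 𝔽) := by
  classical
  letI : Algebra L[X] M := (aeval (R := L) x).toRingHom.toAlgebra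
  have hLX : Function.Injective (algebraMap L[X] M) := transcendental_iff_injective.1 hx
  haveI : Module.IsTorsionFree L[X] M := Module.isTorsionFree_iff_algebraMap_injective.2 hLX
  obtain ⟨s₀, hs₀⟩ := (Algebra.FiniteType.out : (⊤ : Subalgebra R A).FG)
  obtain ⟨px, hpx0, hpx⟩ := hxA
  obtain ⟨py, hpy0, hpy⟩ := hyA
  let S : Finset M := s₀.image ιM ∪ {(ιM px.leadingCoeff)⁻¹, (ιM py.leadingCoeff)⁻¹}
  choose N g hg0 hN using hquot
  let h : L[X] := ∏ z ∈ S, g z
  have hh : h ≠ 0 := Finset.prod_ne_zero_iff.2 fun z _ => hg0 z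
  have hy' : IsIntegral L[X] y := hy
  let F : L[X][Y] := minpoly L[X] y
  have hFm : F.Monic := minpoly.monic hy'
  have hFirr : Irreducible F := minpoly.irreducible hy'
  let co : L[X][Y] → Finset L := fun p => p.support.biUnion fun i => (p.coeff i).coeffs
  let Z₀ : Finset L := co F ∪ h.coeffs ∪ S.biUnion fun z => co (N z) ∪ (g z).coeffs
  let θL : MvPolynomial (Fin n) R →ₐ[R] L := MvPolynomial.aeval b
  haveI : IsDomain (MvPolynomial (Fin n) R) := Function.Injective.isDomain θL.toRingHom hb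
  choose pz hpz0 hpz using hrel
  let B₀ := Algebra.adjoin R (Set.range b ∪ (Z₀ : Set L))
  have hlift : ∀ p : L[X], p.coeffs ⊆ Z₀ → ∃ p' : B₀[X], p'.map B₀.val.toRingHom = p := fun p hp => by
    refine (Polynomial.mem_lifts p).1 (Polynomial.lifts_iff_coeff_lifts p |>.2 fun i => ?_)
    by_cases h0 : p.coeff i = 0
    · rw [h0]; exact ⟨0, map_zero _⟩
    · exact ⟨⟨p.coeff i, Algebra.subset_adjoin (Or.inr (hp (coeff_mem_coeffs h0)))⟩, rfl⟩
  have hlift₂ : ∀ p : L[X][Y], co p ⊆ Z₀ → ∃ p' : B₀[X][Y], p'.map (mapRingHom B₀.val.toRingHom) = p := fun p hp => by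
    refine (Polynomial.mem_lifts p).1 (Polynomial.lifts_iff_coeff_lifts p |>.2 fun i => ?_)
    by_cases h0 : p.coeff i = 0
    · rw [h0]; exact ⟨0, map_zero _⟩
    · obtain ⟨p', hp'⟩ := hlift (p.coeff i) ((Finset.subset_biUnion_of_mem (fun i => (p.coeff i).coeffs)
        (mem_support_iff.2 h0)).trans hp)
      exact ⟨p', hp'⟩
  obtain ⟨F₀, hF₀'⟩ := hlift₂ F (Finset.subset_union_left.trans Finset.subset_union_left)
  have hB₀inj : Function.Injective B₀.val.toRingHom := Subtype.val_injective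
  have hF₀m : F₀.Monic := Polynomial.monic_of_injective (Polynomial.map_injective _ hB₀inj) (hF₀' ▸ hFm)
  obtain ⟨σ, hσ0, hσ⟩ := exists_irreducible_spread.{u} (B := B₀) (Ω := L) hB₀inj F₀ hF₀m
    (show Irreducible (F₀.map (mapRingHom B₀.val.toRingHom)) from hF₀'.symm ▸ hFirr)
  obtain ⟨h₀, hh₀⟩ := hlift h ((Finset.subset_union_right.trans Finset.subset_union_left))
  have hlead : h₀.leadingCoeff ≠ 0 := leadingCoeff_ne_zero.2 fun e => hh (by rw [← hh₀, e, Polynomial.map_zero])
  have hσ' : ((σ : L) * (h₀.leadingCoeff : L)) ≠ 0 :=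
    mul_ne_zero (fun e => hσ0 (Subtype.ext e)) (fun e => hlead (Subtype.ext e))
  let Z₁ : Finset L := insert ((σ : L) * (h₀.leadingCoeff : L))⁻¹ Z₀
  let Zall : Finset L := Z₁ ∪ Z₁.image fun z => (θL (pz z).leadingCoeff)⁻¹
  let B := Algebra.adjoin R (Set.range b ∪ (Zall : Set L))
  have hZ₀all : Z₀ ⊆ Zall := (Finset.subset_insert _ _).trans Finset.subset_union_left
  have hB₀B : B₀ ≤ B := Algebra.adjoin_mono (Set.union_subset_union_right _ (Finset.coe_subset.2 hZ₀all))
  let j : B₀ →ₐ[R] B := Subalgebra.inclusion hB₀B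
  have hjv : B.val.toRingHom.comp j.toRingHom = B₀.val.toRingHom := rfl
  have hjσ : IsUnit (j σ) ∧ IsUnit (j h₀.leadingCoeff) := by
    have h1 : IsUnit (j σ * j h₀.leadingCoeff) := by
      refine isUnit_iff_exists_inv.2 ⟨⟨((σ : L) * (h₀.leadingCoeff : L))⁻¹, Algebra.subset_adjoin
        (Or.inr (Finset.mem_coe.2 (Finset.mem_union_left _ (Finset.mem_insert_self _ _))))⟩, Subtype.ext ?_⟩
      exact mul_inv_cancel₀ hσ'
    exact IsUnit.mul_iff.1 h1
  let tB : Fin n → B := fun i => ⟨b i, Algebra.subset_adjoin (Or.inl ⟨i, rfl⟩)⟩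
  have htBv : ∀ q, ((MvPolynomial.aeval tB q : B) : L) = θL q := fun q => by
    show B.val (MvPolynomial.aeval tB q) = θL q
    rw [MvPolynomial.comp_aeval_apply]
    rfl
  have htBv' : B.val.toRingHom.comp (MvPolynomial.aeval (R := R) tB).toRingHom = θL.toRingHom := RingHom.ext htBv
  have hindB : AlgebraicIndependent R tB := fun q q' e => hb (by
    show θL q = θL q'
    rw [← htBv, ← htBv, e])
  -- relations for the generators
  have hθlead : ∀ z : L, θL (pz z).leadingCoeff ≠ 0 := fun z e =>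
    leadingCoeff_ne_zero.2 (hpz0 z) (hb (e.trans (map_zero θL).symm))
  have hzlead : ∀ z ∈ Z₁, IsUnit (MvPolynomial.aeval tB (pz z).leadingCoeff) := fun z hz => by
    refine isUnit_iff_exists_inv.2 ⟨⟨(θL (pz z).leadingCoeff)⁻¹, Algebra.subset_adjoin (Or.inr
      (Finset.mem_coe.2 (Finset.mem_union_right _ (Finset.mem_image.2 ⟨z, hz, rfl⟩))))⟩, Subtype.ext ?_⟩
    show ((MvPolynomial.aeval tB (pz z).leadingCoeff : B) : L) * _ = 1
    rw [htBv]
    exact mul_inv_cancel₀ (hθlead z)
  have hrelB : ∀ w : B, ∃ p : (MvPolynomial (Fin n) R)[X], (w : L) ∈ Zall →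
      IsUnit (MvPolynomial.aeval tB p.leadingCoeff) ∧
        p.eval₂ (MvPolynomial.aeval (R := R) tB).toRingHom w = 0 := fun w => by
    by_cases hw : (w : L) ∈ Zall
    swap
    · exact ⟨0, fun h' => absurd h' hw⟩
    rcases Finset.mem_union.1 hw with hw1 | hw1
    · refine ⟨pz w, fun _ => ⟨hzlead _ hw1, Subtype.ext ?_⟩⟩
      refine (hom_eval₂ (pz (w : L)) _ B.val.toRingHom w).trans ?_
      rw [htBv']
      exact hpz _
    · obtain ⟨z, hz, hzw⟩ := Finset.mem_image.1 hw1
      have hβ : (pz z).leadingCoeff ≠ 0 := leadingCoeff_ne_zero.2 (hpz0 z)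
      refine ⟨C (pz z).leadingCoeff * X + C (-1), fun _ => ⟨?_, Subtype.ext ?_⟩⟩
      · rw [leadingCoeff_linear hβ]
        exact hzlead z hz
      · refine (hom_eval₂ _ _ B.val.toRingHom w).trans ?_
        rw [htBv', eval₂_add, eval₂_mul, eval₂_C, eval₂_C, eval₂_X, map_neg, map_one]
        show θL (pz z).leadingCoeff * (w : L) + -1 = 0
        rw [← hzw, mul_inv_cancel₀ (hθlead z), add_neg_cancel]
  choose pB hpB using hrelB
  let Z : Finset B := Zall.attach.image fun z => ⟨z.1, Algebra.subset_adjoin (Or.inr (Finset.mem_coe.2 z.2))⟩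
  have hgen : Algebra.adjoin R (Set.range tB ∪ ↑Z) = ⊤ := by
    refine Subalgebra.map_injective (f := B.val) Subtype.val_injective ?_
    rw [Algebra.map_top, Subalgebra.range_val, AlgHom.map_adjoin, Set.image_union]
    congr 2
    · rw [← Set.range_comp]; rfl
    · rw [Finset.coe_image, ← Set.image_comp]
      ext z
      constructor
      · rintro ⟨w, -, rfl⟩; exact w.2
      · exact fun hz => ⟨⟨z, hz⟩, Finset.mem_coe.2 (Finset.mem_attach _ _), rfl⟩
  have hBfg : Algebra.FiniteType R B :=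
    ⟨by rw [← hgen]; exact Subalgebra.fg_def.2 ⟨_, (Set.finite_range tB).union Z.finite_toSet, rfl⟩⟩
  refine ⟨B, inferInstance, inferInstance, inferInstance, tB, hBfg, hindB, fun w => ?_, ?_⟩
  · refine ⟨pz w, hpz0 _, Subtype.ext ?_⟩
    refine (hom_eval₂ (pz (w : L)) _ B.val.toRingHom w).trans ?_
    rw [htBv']
    exact hpz _
  let FB : B[X][Y] := F₀.map (mapRingHom j.toRingHom)
  let hB : B[X] := h₀.map j.toRingHom
  have hFBm : FB.Monic := hF₀m.map _
  let V : B[X] →ₐ[R] M := (aeval (R := L) x).restrictScalars R |>.comp (Polynomial.mapAlgHom B.val)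
  have hV : V.toRingHom = (algebraMap L[X] M).comp (mapRingHom B.val.toRingHom) := rfl
  have hVa : ∀ q : B[X], V q = algebraMap L[X] M (q.map B.val.toRingHom) := fun q => rfl
  have hFB' : FB.map (mapRingHom B.val.toRingHom) = F := by
    rw [Polynomial.map_map, mapRingHom_comp, hjv, hF₀']
  have hBv : hB.map B.val.toRingHom = h := by rw [Polynomial.map_map, hjv, hh₀]
  have hFBy : FB.eval₂ V.toRingHom y = 0 := by
    rw [hV, ← eval₂_map, hFB']
    exact minpoly.aeval L[X] y
  have hVh : V hB ≠ 0 := by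
    rw [hVa, hBv]
    exact (map_ne_zero_iff _ hLX).2 hh
  have hmap2 : Function.Injective (Polynomial.map (mapRingHom B.val.toRingHom) : B[X][Y] → L[X][Y]) :=
    Polynomial.map_injective _ (Polynomial.map_injective _ Subtype.val_injective)
  have hmin : ∀ r : B[X][Y], r.degree < FB.degree → r.eval₂ V.toRingHom y = 0 → r = 0 := by
    intro r hr h0
    by_contra hne
    have h1 := minpoly.IsIntegrallyClosed.degree_le_of_ne_zero (R := L[X]) (s := y) (p := r.map (mapRingHom B.val.toRingHom))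
      (fun e => hne (hmap2 (e.trans (Polynomial.map_zero _).symm))) (by rw [aeval_def, eval₂_map, ← hV]; exact h0)
    rw [show minpoly L[X] y = FB.map (mapRingHom B.val.toRingHom) from hFB'.symm,
      degree_map_eq_of_injective (f := mapRingHom B.val.toRingHom) (Polynomial.map_injective _ Subtype.val_injective),
      degree_map_eq_of_injective (f := mapRingHom B.val.toRingHom) (Polynomial.map_injective _ Subtype.val_injective)] at h1
    exact absurd hr (not_lt.2 h1)
  let Θh := totalHom FB hB V y hFBy hVh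
  have hΘh : Function.Injective Θh := injective_totalHom FB hB V y hFBy hVh hFBm hmin
  have hΘV : ∀ q : B[X], Θh (algebraMap (AdjoinRoot FB) _ (AdjoinRoot.of FB q)) = V q := fun q => by
    rw [totalHom_algebraMap, AdjoinRoot.liftAlgHom_of]
  have hmemS : ∀ z ∈ S, z ∈ Θh.range := by
    intro z hz
    have hsub : ∀ w ∈ S, co (N w) ∪ (g w).coeffs ⊆ Z₀ := fun w hw =>
      (Finset.subset_biUnion_of_mem (fun z => co (N z) ∪ (g z).coeffs) hw).trans Finset.subset_union_right
    obtain ⟨N', hN'⟩ := hlift₂ (N z) (Finset.subset_union_left.trans (hsub z hz))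
    have hgl : ∀ w, ∃ q : B₀[X], w ∈ S → q.map B₀.val.toRingHom = g w := fun w => by
      by_cases hw : w ∈ S
      · obtain ⟨q, hq⟩ := hlift (g w) (Finset.subset_union_right.trans (hsub w hw))
        exact ⟨q, fun _ => hq⟩
      · exact ⟨0, fun h' => absurd h' hw⟩
    choose gl hgl using hgl
    let q : B[X] := (∏ w ∈ S.erase z, gl w).map j.toRingHom
    let N'' : AdjoinRoot FB := AdjoinRoot.mk FB (N'.map (mapRingHom j.toRingHom)) * AdjoinRoot.of FB q
    have hN'' : Θh (algebraMap (AdjoinRoot FB) _ N'') = z * algebraMap L[X] M h := by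
      rw [totalHom_algebraMap, map_mul, AdjoinRoot.liftAlgHom_mk, AdjoinRoot.liftAlgHom_of, show (V : B[X] →+* M) = _ from hV, hVa]
      rw [← eval₂_map, Polynomial.map_map, mapRingHom_comp, hjv, hN']
      show (N z).eval₂ (aeval x).toRingHom y * _ = _
      rw [← hN z, Polynomial.map_map, hjv, Polynomial.map_prod,
        Finset.prod_congr rfl (fun w hw => hgl w (Finset.mem_of_mem_erase hw)), mul_assoc]
      rw [show aeval x (g z) = algebraMap L[X] M (g z) from rfl, ← map_mul, Finset.mul_prod_erase S g hz]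
    have h1 : Θh (algebraMap (AdjoinRoot FB) _ (AdjoinRoot.of FB hB)) *
        Θh (IsLocalization.Away.invSelf (AdjoinRoot.of FB hB)) = 1 := by
      rw [← map_mul, IsLocalization.Away.mul_invSelf, map_one]
    rw [hΘV, hVa, hBv] at h1
    refine ⟨algebraMap (AdjoinRoot FB) _ N'' * IsLocalization.Away.invSelf (AdjoinRoot.of FB hB), ?_⟩
    show Θh (_ * _) = z
    rw [map_mul, hN'', mul_assoc, h1, mul_one]
  have hrange : ∀ a : A, ιM a ∈ Θh.range := fun a => by
    have ha : a ∈ Algebra.adjoin R (s₀ : Set A) := hs₀ ▸ trivial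
    induction ha using Algebra.adjoin_induction with
    | mem w hw => exact hmemS _ (Finset.mem_union_left _ (Finset.mem_image.2 ⟨w, hw, rfl⟩))
    | algebraMap r => rw [AlgHom.commutes]; exact Subalgebra.algebraMap_mem _ r
    | add w w' _ _ hw hw' => rw [map_add]; exact add_mem hw hw'
    | mul w w' _ _ hw hw' => rw [map_mul]; exact mul_mem hw hw'
  let aA : A →ₐ[R] Localization.Away (AdjoinRoot.of FB hB) :=
    (AlgEquiv.ofInjective Θh hΘh).symm.toAlgHom.comp (ιM.codRestrict Θh.range hrange)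
  have haA : ∀ a, Θh (aA a) = ιM a := fun a =>
    congrArg Subtype.val ((AlgEquiv.ofInjective Θh hΘh).apply_symm_apply ⟨ιM a, hrange a⟩)
  have hrelR : ∀ (p : A[X]) (w : Localization.Away (AdjoinRoot.of FB hB)),
      p.eval₂ ιM.toRingHom (Θh w) = 0 → p.eval₂ aA.toRingHom w = 0 := fun p w hp => hΘh (by
    refine (hom_eval₂ p aA.toRingHom Θh.toRingHom w).trans ?_
    rw [show Θh.toRingHom.comp aA.toRingHom = ιM.toRingHom from RingHom.ext haA, map_zero]
    exact hp)
  have hxR : Θh (algebraMap (AdjoinRoot FB) _ (AdjoinRoot.of FB X)) = x := by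
    rw [hΘV, hVa, Polynomial.map_X]
    exact aeval_X x
  have hyR : Θh (algebraMap (AdjoinRoot FB) _ (AdjoinRoot.root FB)) = y := by
    rw [totalHom_algebraMap]
    exact AdjoinRoot.liftAlgHom_root FB V y hFBy
  have hunit : ∀ p : A[X], p ≠ 0 → (ιM p.leadingCoeff)⁻¹ ∈ S → IsUnit (aA p.leadingCoeff) := fun p hp0 hmem => by
    obtain ⟨w, hw⟩ := hmemS _ hmem
    refine isUnit_iff_exists_inv.2 ⟨w, hΘh ?_⟩
    rw [map_mul, haA, map_one]
    exact (congrArg (ιM p.leadingCoeff * ·) hw).trans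
      (mul_inv_cancel₀ fun e => leadingCoeff_ne_zero.2 hp0 (hι (e.trans (map_zero ιM).symm)))
  refine count tA tB FB hFBm ?_ hB ?_ ?_ aA ?_ px py (hunit px hpx0 (Finset.mem_union_right _ (Finset.mem_insert_self _ _)))
    (hunit py hpy0 (Finset.mem_union_right _ (Finset.mem_insert_of_mem (Finset.mem_singleton_self _))))
    (hrelR px _ (by rw [hxR]; exact hpx)) (hrelR py _ (by rw [hyR]; exact hpy)) Z pB ?_ hgen
  · rw [show FB.natDegree = F.natDegree by rw [← hFB', hFBm.natDegree_map]]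
    exact minpoly.natDegree_pos hy'
  · rw [show hB.leadingCoeff = j h₀.leadingCoeff from leadingCoeff_map_of_injective
      (Subalgebra.inclusion_injective hB₀B) _]
    exact hjσ.2
  · intro L' _ φ
    rw [Polynomial.map_map, mapRingHom_comp]
    exact hσ L' _ (hjσ.1.map φ).ne_zero
  · intro i
    refine hΘh ?_
    rw [haA, hΘV, hVa, Polynomial.map_C, hbA]
    exact (aeval_C x (b i)).symm
  · intro z hz
    obtain ⟨w, -, rfl⟩ := Finset.mem_image.1 hz
    exact hpB _ w.2

end Groth.Agent.PtCount
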